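import Groth.Agent.PicCurve.ThetaPull.Sets
import Groth.Agent.PicCurve.Alb.Corresp
import Groth.Agent.S8914
import Groth.Agent.BlowUpLib.Glue

/-!
# The family of inverse images of the translates of a class on the Jacobian
-/

noncomputable section

set_option autoImplicit false
set_option linter.style.haveILetI false
set_option linter.unusedSectionVars false
set_option backward.isDefEq.respectTransparency false
set_option backward.isDefEq.respectTransparency.types false
set_option maxHeartbeats 1000000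
set_option synthInstance.maxHeartbeats 400000
attribute [-instance] CategoryTheory.catToReflQuiver

universe u

open CategoryTheory CategoryTheory.Limits AlgebraicGeometry TopologicalSpace
  MonoidalCategory CartesianMonoidalCategory
open scoped MonObj
open Groth.Agent.H23.PicMul

namespace Groth.Agent.PicCurve.ThetaPull

open Alb Pts

/-- pulling back an inverse of the ideal of a divisor -/
theorem pullCl_mul_ideal {Y Z : Scheme.{u}} (g : Y ⟶ Z) {I : Z.IdealSheafData} {L : Z.Modules}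
    (hL : PicF.IsInvertible L) (h : PicF.cl L * PicF.cl (ClSub.idealMod I) = 1)
    (hg : BlowUp.IsEffCartierIdeal (I.comap g)) :
    PicF.pullCl g (PicF.cl L) * PicF.cl (ClSub.idealMod (I.comap g)) = 1 := by
  have hI : BlowUp.IsEffCartierIdeal I := by
    obtain ⟨D, hD, ⟨u⟩⟩ := H23.PicInv.exists_inverse hL
    have hu : PicF.cl L * PicF.cl D = 1 := cl_eq_iff.2 ⟨u⟩
    have : PicF.cl (ClSub.idealMod I) = PicF.cl D := by
      rw [← _root_.one_mul (PicF.cl (ClSub.idealMod I)), ← hu, mul_comm (PicF.cl L), _root_.mul_assoc, h,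
        _root_.mul_one]
    obtain ⟨φ⟩ := cl_eq_iff.1 this.symm
    exact (S8914.result I).1 (isInvertible_of_iso φ hD)
  rw [← Big.cl_idealMod_comap g I hI hg]
  show _ * PicF.pullCl g (PicF.cl _) = 1
  rw [← pullCl_mul, h, pullCl_one]

theorem effCartier_prod {k : Type u} [Field k] [IsAlgClosed k] {X : Scheme.{u}} (f : X ⟶ Spec (CommRingCat.of k))
    [IsProper f] [Smooth f] [SmoothOfRelativeDimension 1 f] [GeometricallyIntegral f] [IsIntegral X] :
    ∀ {n : ℕ} (x : Fin n → (𝟙_ (Over (Spec (CommRingCat.of k))) ⟶ Over.mk f)),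
      BlowUp.IsEffCartierIdeal (∏ i, (x i).left.ker) ∧
        PicF.cl (ClSub.idealMod (∏ i, (x i).left.ker)) = (List.ofFn fun i => ptCl f (x i)).prod
  | 0, x => by
    have h : BlowUp.IsEffCartierIdeal (⊤ : (Over.mk f).left.IdealSheafData) := BlowUpLib.isEffCartier_top _
    rw [Finset.univ_eq_empty, Finset.prod_empty, List.ofFn_zero, List.prod_nil]
    refine ⟨h, ?_⟩
    have h1 := SurfRR.cl_idealMod_mul h h
    rw [show (⊤ : (Over.mk f).left.IdealSheafData) * ⊤ = ⊤ from Scheme.IdealSheafData.top_mul _] at h1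
    have hi : PicF.IsInvertibleCl (PicF.cl (ClSub.idealMod (⊤ : (Over.mk f).left.IdealSheafData))) :=
      ⟨_, rfl, Big.isInvertible_ideal h⟩
    exact eq_of_invCl_mul hi (by rw [_root_.one_mul]; exact h1.symm)
  | n + 1, x => by
    obtain ⟨h1, h2⟩ := effCartier_prod f fun i => x i.castSucc
    have h3 := Alb.effCartier_ker f (x (Fin.last n)).left (Over.w _)
    rw [Fin.prod_univ_castSucc, List.ofFn_succ', List.prod_concat]
    exact ⟨ModPairLib.isEffCartier_mul h1 h3, (SurfRR.cl_idealMod_mul h1 h3).trans (by rw [h2])⟩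

variable {k : Type u} [Field k] [IsAlgClosed k] {X : Scheme.{u}} (f : X ⟶ Spec (CommRingCat.of k))
  [IsProper f] [Smooth f] [SmoothOfRelativeDimension 1 f] [GeometricallyIntegral f] [IsIntegral X]
  (hdim : topologicalKrullDim X = 1) (σ : Spec (CommRingCat.of k) ⟶ X) (hσ : σ ≫ f = 𝟙 _)
  {J : Over (Spec (CommRingCat.of k))} [IsProper J.hom] [Smooth J.hom] [IrreducibleSpace J.left]
  (ξ : PicF.Rig f σ hσ J) (hξ : FGA.HasFibreDegreeZeroCl f J ξ.1)
  (huniv : ∀ (T : Over (Spec (CommRingCat.of k))) (c : PicF.Rig f σ hσ T), FGA.HasFibreDegreeZeroCl f T c.1 →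
    ∃! g : T ⟶ J, PicF.pullCl (PicF.XTmap f g) ξ.1 = c.1)

/-- the difference map from the curve times the Jacobian -/
def diffMap : Over.mk f ⊗ J ⟶ J :=
  letI := jacGrpObj f hdim σ hσ ξ hξ huniv
  (fst (Over.mk f) J ≫ aj f hdim σ hσ ξ hξ huniv) * (snd (Over.mk f) J)⁻¹

/-- the difference map as a map of schemes on the product -/
abbrev diffLeft : PicF.XT f J ⟶ J.left := (diffMap f hdim σ hσ ξ hξ huniv).left

theorem XTmap_diffMap (b : 𝟙_ (Over (Spec (CommRingCat.of k))) ⟶ J) :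
    letI := jacGrpObj f hdim σ hσ ξ hξ huniv
    PicF.XTmap f b ≫ diffLeft f hdim σ hσ ξ hξ huniv =
      p₁ f ≫ (aj f hdim σ hσ ξ hξ huniv ≫ Jac.transl J b⁻¹).left := by
  letI := jacGrpObj f hdim σ hσ ξ hξ huniv
  haveI := jac_isCommMonObj f hdim σ hσ ξ hξ huniv
  let P : Over (Spec (CommRingCat.of k)) := 𝟙_ _
  have h : (Over.mk f ◁ b) ≫ diffMap f hdim σ hσ ξ hξ huniv =
      fst (Over.mk f) P ≫ aj f hdim σ hσ ξ hξ huniv ≫ Jac.transl J b⁻¹ := by
    rw [Pts.comp_transl, MonObj.comp_mul, diffMap, MonObj.comp_mul, GrpObj.comp_inv, whiskerLeft_fst_assoc,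
      whiskerLeft_snd]
    simp only [GrpObj.comp_inv, ← Category.assoc, toUnit_unique (fst (Over.mk f) P ≫ toUnit _) (snd (Over.mk f) P)]
    rfl
  have hw : PicF.XTmap f b = (Over.mk f ◁ b).left := by
    refine pullback.hom_ext ?_ ?_
    · exact ((pullback.lift_fst _ _ _).trans (Category.comp_id _)).trans
        congr($(whiskerLeft_fst (Over.mk f) b).left).symm
    · exact (pullback.lift_snd _ _ _).trans congr($(whiskerLeft_snd (Over.mk f) b).left).symm
  rw [hw]
  exact congr($(h).left)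

theorem secT_diffMap :
    letI := jacGrpObj f hdim σ hσ ξ hξ huniv
    PicF.secT f σ hσ J ≫ diffLeft f hdim σ hσ ξ hξ huniv = ((𝟙 J)⁻¹).left := by
  letI := jacGrpObj f hdim σ hσ ξ hξ huniv
  haveI := jac_isCommMonObj f hdim σ hσ ξ hξ huniv
  let s : J ⟶ Over.mk f ⊗ J := lift (basePt f σ hσ J) (𝟙 J)
  have hs : PicF.secT f σ hσ J = s.left := by
    refine pullback.hom_ext ?_ ?_
    · exact (pullback.lift_fst _ _ _).trans congr($(lift_fst (basePt f σ hσ J) (𝟙 J)).left).symm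
    · exact (pullback.lift_snd _ _ _).trans congr($(lift_snd (basePt f σ hσ J) (𝟙 J)).left).symm
  have h : s ≫ diffMap f hdim σ hσ ξ hξ huniv = (𝟙 J)⁻¹ := by
    rw [diffMap, MonObj.comp_mul, GrpObj.comp_inv, lift_fst_assoc, lift_snd,
      show basePt f σ hσ J ≫ aj f hdim σ hσ ξ hξ huniv = 1 by
        rw [show basePt f σ hσ J = toUnit J ≫ (Over.homMk σ hσ : 𝟙_ _ ⟶ Over.mk f) from
          Over.OverMorphism.ext rfl, Category.assoc, basePt_aj]
        rfl, _root_.one_mul]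
  rw [hs]
  exact congr($(h).left)

include hdim hξ huniv in
/-- a class whose translates restrict to good divisors restricts to all divisors -/
theorem family_eq (l : PicF.Cl J.left) (hl : PicF.IsInvertibleCl l)
    (H : letI := jacGrpObj f hdim σ hσ ξ hξ huniv
      ∀ b : 𝟙_ (Over (Spec (CommRingCat.of k))) ⟶ J, pt b ∈ goodU f σ hσ ξ →
      PicF.pullCl (aj f hdim σ hσ ξ hξ huniv ≫ Jac.transl J b⁻¹).left l = clN f σ hσ ξ (gen f) b) :
    letI := jacGrpObj f hdim σ hσ ξ hξ huniv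
    (∀ b : 𝟙_ (Over (Spec (CommRingCat.of k))) ⟶ J,
      PicF.pullCl (aj f hdim σ hσ ξ hξ huniv ≫ Jac.transl J b⁻¹).left l = clN f σ hσ ξ (gen f) b) ∧
    ξ.1 * PicF.pullCl (PicF.XTproj f J) (PicF.pullCl ((𝟙 J)⁻¹).left l) =
      PicF.pullCl (diffLeft f hdim σ hσ ξ hξ huniv) l * tw f (δ σ) J ^ gen f := by
  letI := jacGrpObj f hdim σ hσ ξ hξ huniv
  haveI := jac_isCommMonObj f hdim σ hσ ξ hξ huniv
  let P : Over (Spec (CommRingCat.of k)) := 𝟙_ _
  let α := aj f hdim σ hσ ξ hξ huniv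
  let q := diffLeft f hdim σ hσ ξ hξ huniv
  have hδJ := isInvertibleCl_pow (isInvertibleCl_tw (f := f) (isInvertibleCl_δ f σ hσ) J) (gen f)
  have ha : PicF.IsInvertibleCl (PicF.pullCl q l * tw f (δ σ) J ^ gen f) :=
    isInvertibleCl_mul (FppfPic.isInvertibleCl_pull _ hl) hδJ
  let c := rigify f σ hσ ha
  haveI : Subsingleton P.left := inferInstanceAs (Subsingleton (PrimeSpectrum k))
  haveI : Nonempty P.left := inferInstanceAs (Nonempty (PrimeSpectrum k))
  have hcb : ∀ b : P ⟶ J, PicF.pullCl (PicF.XTmap f b) c.1 =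
      PicF.pullCl (p₁ f) ((PicF.pullCl (α ≫ Jac.transl J b⁻¹).left l : PicF.Cl X) * δ σ ^ gen f) := by
    intro b
    show PicF.pullCl _ (_ * PicF.pullCl _ _) = _
    rw [pullCl_mul, PicClLib.pullCl_comp (PicF.XTmap f b) (PicF.XTproj f J),
      show PicF.XTmap f b ≫ PicF.XTproj f J = PicF.XTproj f P ≫ b.left from pullback.lift_snd _ _ _,
      ← PicClLib.pullCl_comp (PicF.XTproj f P) b.left,
      eq_one_of_subsingleton (FppfPic.isInvertibleCl_pull b.left (isInvertibleCl_invCl _)), pullCl_one,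
      _root_.mul_one, pullCl_mul, PicClLib.pullCl_comp, XTmap_diffMap, ← PicClLib.pullCl_comp, Alb.pullCl_pow, tw_pull,
      pullCl_mul, Alb.pullCl_pow]
    rfl
  have hgood : ∀ b : P ⟶ J, pt b ∈ goodU f σ hσ ξ → PicF.pullCl (PicF.XTmap f b) c.1 = PicF.pullCl (PicF.XTmap f b) ξ.1 := by
    intro b hb
    rw [hcb, H b hb, clN_mul_pow, pull_A]
  obtain ⟨b₀', hb₀⟩ := exists_good_point f (𝟙 _) hdim σ hσ ξ hξ huniv
  let b₀ : P ⟶ J := b₀'
  have hb₀' : pt b₀ ∈ goodU f σ hσ ξ := hb₀ _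
  haveI : IsLocallyNoetherian J.left := LocallyOfFiniteType.isLocallyNoetherian J.hom
  have hdeg : FGA.HasFibreDegreeZeroCl f J c.1 := (hasFibreDegreeZeroCl_iff f _).2 fun t => (deg0At_iff f _ _).2 (by
    rw [(isLocallyConstant_degCl f hdim c.2.1).apply_eq_of_isPreconnected isPreconnected_univ (Set.mem_univ t)
      (Set.mem_univ (pt b₀))]
    refine (degCl_pull f b₀ c.2.1 (show Spec (CommRingCat.of k) from IsLocalRing.closedPoint k)).symm.trans ?_
    rw [hgood b₀ hb₀']
    exact (deg0At_iff f _ _).1 ((hasFibreDegreeZeroCl_iff f _).1 (rig0Pull f σ hσ b₀ ⟨ξ, hξ⟩).2 _))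
  obtain ⟨h, hh, -⟩ := huniv J c hdeg
  have hh1 : h = 𝟙 J := by
    haveI := GrpSchLib.isReduced_of_smooth_field J.hom
    haveI : LocallyOfFiniteType (h.left ≫ J.hom) := by rw [Over.w]; infer_instance
    refine Over.OverMorphism.ext (ext_of_apply_eq J.hom (goodU f σ hσ ξ : Set J.left)
      (goodU f σ hσ ξ).isOpen.isLocallyClosed
      ((goodU f σ hσ ξ).isOpen.dense ⟨_, hb₀'⟩) (fun y hy hyc => ?_) (by simp))
    obtain ⟨b, rfl⟩ := exists_pt (Y := J) hyc
    rw [pt_comp, show b ≫ h = b from eq_of_rigPull f σ hσ ξ hξ huniv (Subtype.ext (by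
      show PicF.pullCl (PicF.XTmap f (b ≫ h)) ξ.1 = PicF.pullCl (PicF.XTmap f b) ξ.1
      rw [← hgood b hy, ← hh, FppfPic.pullCl_XTmap_comp]))]
    rfl
  subst hh1
  have hc : ξ.1 = c.1 := by
    rw [← hh, show PicF.XTmap f (𝟙 J) = 𝟙 _ from pullback.hom_ext (by simp [PicF.XTmap]) (by simp [PicF.XTmap]),
      PicClLib.pullCl_id]
  refine ⟨fun b => ?_, ?_⟩
  · have h1 := hcb b
    rw [← hc, ← pull_A f σ hσ ξ b] at h1
    have h2 := congrArg (PicF.pullCl (inv (p₁ f))) h1
    rw [PicClLib.pullCl_comp, PicClLib.pullCl_comp, IsIso.inv_hom_id, PicClLib.pullCl_id, PicClLib.pullCl_id] at h2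
    refine eq_of_invCl_mul (isInvertibleCl_pow (isInvertibleCl_δ f σ hσ) (gen f)) ?_
    rw [clN_mul_pow]
    exact h2.symm
  · have hsec : PicF.pullCl (PicF.secT f σ hσ J) (PicF.pullCl q l * tw f (δ σ) J ^ gen f) =
        PicF.pullCl ((𝟙 J)⁻¹).left l := by
      rw [pullCl_mul, PicClLib.pullCl_comp, secT_diffMap, Alb.pullCl_pow, tw, PicClLib.pullCl_comp,
        show PicF.secT f σ hσ J ≫ pullback.fst f J.hom = J.hom ≫ σ from pullback.lift_fst _ _ _,
        ← PicClLib.pullCl_comp, eq_one_of_subsingleton (FppfPic.isInvertibleCl_pull σ (isInvertibleCl_δ f σ hσ)),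
        pullCl_one, one_pow, _root_.mul_one]
    rw [hc]
    show _ * PicF.pullCl _ (invCl _) * _ = _
    rw [_root_.mul_assoc, ← pullCl_mul, ← hsec, invCl_mul, pullCl_one, _root_.mul_one]

end Groth.Agent.PicCurve.ThetaPull

end
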