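import Groth.Agent.S2266
import Groth.Agent.H23.RedSub
import Groth.Agent.FComplLib.IdealComap
import Mathlib.AlgebraicGeometry.ZariskisMainTheorem

/-!
# Scheme-theoretic images of proper maps from reduced schemes
-/

noncomputable section

set_option autoImplicit false
set_option linter.style.haveILetI false

universe u

open CategoryTheory CategoryTheory.Limits AlgebraicGeometry TopologicalSpace

namespace Groth.Agent.PicCurve.ThetaPull

variable {X Y T : Scheme.{u}}

/-- the kernel of a quasi-compact map from a reduced scheme is the ideal of the closure of the image -/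
theorem ker_eq_vanishingIdeal (ν : X ⟶ Y) [IsReduced X] [QuasiCompact ν] (S : Closeds Y)
    (hS : closure (Set.range ν) = (S : Set Y)) : ν.ker = Scheme.IdealSheafData.vanishingIdeal S := by
  have h1 : ν.ker.support = S := by
    refine SetLike.coe_injective ?_
    rw [Scheme.Hom.support_ker, ← hS]
  haveI : IsReduced ν.ker.subscheme := (S2266.result ν).1
  rw [← h1, Scheme.IdealSheafData.vanishingIdeal_support]
  refine le_antisymm ν.ker.le_radical fun U => ?_
  rw [Scheme.IdealSheafData.radical_ideal]
  exact H23.RedSub.isRadical_of_isReduced_subscheme U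

/-- the kernel is compatible with isomorphisms of the target -/
theorem comap_ker_comp {Y' : Scheme.{u}} (ν : X ⟶ Y) (e : Y ⟶ Y') [IsIso e] [QuasiCompact ν] :
    (ν ≫ e).ker.comap e = ν.ker := by
  refine le_antisymm (Scheme.IdealSheafData.le_map_iff_comap_le.1 (Scheme.IdealSheafData.map_ker ν e).ge) ?_
  have h1 : ν.ker.comap (inv e) ≤ (ν ≫ e).ker :=
    Scheme.IdealSheafData.le_map_iff_comap_le.1 (by rw [Scheme.IdealSheafData.map_ker, Category.assoc, IsIso.hom_inv_id,
      Category.comp_id])
  have h2 := Scheme.IdealSheafData.comap_mono (f := e) h1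
  dsimp only at h2
  rwa [← Scheme.IdealSheafData.comap_comp, IsIso.hom_inv_id, Scheme.IdealSheafData.comap_id] at h2

/-- maps into the image lift where the map is a monomorphism -/
theorem lift_of_mono (ν : X ⟶ Y) [IsProper ν] [IsReduced X] (U : Y.Opens) [Mono (ν ∣_ U)] (z : T ⟶ Y)
    (hz : ∀ t, z t ∈ U) (hle : ν.ker ≤ z.ker) : ∃ h : T ⟶ X, h ≫ ν = z := by
  let j := ν.imageι
  let q := ν.toImage
  have hq : q ≫ j = ν := ν.toImage_imageι
  haveI : IsReduced ν.image := (S2266.result ν).1
  haveI : IsProper (q ≫ j) := hq.symm ▸ ‹IsProper ν›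
  haveI : IsProper q := IsProper.of_comp q j
  haveI : Surjective q := ⟨Set.range_eq_univ.1 (q.denseRange.closure_range ▸ q.isClosedMap.isClosed_range.closure_eq.symm)⟩
  let z' : T ⟶ ν.image := IsClosedImmersion.lift j z (by rwa [Scheme.IdealSheafData.ker_subschemeι])
  have hz' : z' ≫ j = z := IsClosedImmersion.lift_fac _ _ _
  let V : ν.image.Opens := j ⁻¹ᵁ U
  have hzV : ∀ t, z' t ∈ V := fun t => by
    show j (z' t) ∈ U
    rw [← Scheme.Hom.comp_apply, hz']
    exact hz t
  haveI : Mono ((q ∣_ V) ≫ (j ∣_ U)) := by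
    rw [← morphismRestrict_comp]
    have : Mono ((q ≫ j) ∣_ U) := by
      revert ‹IsProper (q ≫ j)›
      rw [hq]
      intro
      infer_instance
    exact this
  haveI : Mono (q ∣_ V) := mono_of_mono (q ∣_ V) (j ∣_ U)
  haveI : IsProper (q ∣_ V) := MorphismProperty.of_isPullback (isPullback_morphismRestrict q V).flip ‹IsProper q›
  haveI : Surjective (q ∣_ V) := MorphismProperty.of_isPullback (isPullback_morphismRestrict q V).flip ‹Surjective q›
  haveI : IsClosedImmersion (q ∣_ V) := (IsClosedImmersion.iff_isProper_and_mono _).2 ⟨inferInstance, inferInstance⟩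
  haveI : IsReduced V.toScheme := isReduced_of_isOpenImmersion V.ι
  haveI : IsIso (q ∣_ V) := isIso_of_isClosedImmersion_of_surjective _
  refine ⟨IsOpenImmersion.lift V.ι z' (by rw [Scheme.Opens.range_ι]; rintro _ ⟨t, rfl⟩; exact hzV t) ≫
    inv (q ∣_ V) ≫ (q ⁻¹ᵁ V).ι, ?_⟩
  refine (congrArg (_ ≫ ·) hq).symm.trans ?_
  rw [← hz']
  simp only [Category.assoc]
  rw [← morphismRestrict_ι_assoc, IsIso.inv_hom_id_assoc, IsOpenImmersion.lift_fac_assoc]

end Groth.Agent.PicCurve.ThetaPull

end
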