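import Groth.Agent.PicCurve.ThetaPull.Sets
import Groth.Agent.PicCurve.Pts.Canonical

/-!
# The divisor cut on the curve by a translate of theta
-/

noncomputable section

set_option autoImplicit false
set_option linter.style.haveILetI false
set_option linter.unusedSectionVars false
set_option backward.isDefEq.respectTransparency false
set_option backward.isDefEq.respectTransparency.types false
set_option maxHeartbeats 1000000
set_option synthInstance.maxHeartbeats 400000
attribute [-instance] CategoryTheory.catToReflQuiver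

universe u

open CategoryTheory CategoryTheory.Limits AlgebraicGeometry TopologicalSpace
  MonoidalCategory CartesianMonoidalCategory
open scoped MonObj
open Groth.Agent.H23.PicMul

namespace Groth.Agent.PicCurve.ThetaPull

open Alb Pts

variable {k : Type u} [Field k] [IsAlgClosed k] (C : Scheme.{u}) [C.Over (Spec (CommRingCat.of k))]
  [IsProper (C ↘ Spec (CommRingCat.of k))] [Smooth (C ↘ Spec (CommRingCat.of k))]
  [GeometricallyConnected (C ↘ Spec (CommRingCat.of k))]
  (hdim : topologicalKrullDim C = 1) (σ : Spec (CommRingCat.of k) ⟶ C)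
  (hσ : σ ≫ (C ↘ Spec (CommRingCat.of k)) = 𝟙 _)
  {J : Over (Spec (CommRingCat.of k))} [GrpObj J] [IsCommMonObj J]
  {ψ : (ModFun.PicDeg (C ↘ Spec (CommRingCat.of k)) 0).Hom ⊤ J}
  (hJ : Jac.IsJacobian (C ↘ Spec (CommRingCat.of k)) ⊤ J ψ)
  {j : Over.mk (C ↘ Spec (CommRingCat.of k)) ⟶ J}
  (hj : Jac.IsAbelJacobiAt (C ↘ Spec (CommRingCat.of k)) σ ψ j)

include hdim σ hσ hJ hj in
/-- the divisor with one section over a class outside of the shifted theta -/
theorem exists_one_section {g : ℕ} (hg : Curv2.genus k C = g) (hg1 : 1 ≤ g)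
    (b : 𝟙_ (Over (Spec (CommRingCat.of k))) ⟶ J)
    (x₀ : 𝟙_ (Over (Spec (CommRingCat.of k))) ⟶ Over.mk (C ↘ Spec (CommRingCat.of k)))
    (hout : b * (x₀ ≫ j)⁻¹ ∉ WJ (C ↘ Spec (CommRingCat.of k)) j (g - 1)) :
    ∃ (xs : Fin g → (𝟙_ (Over (Spec (CommRingCat.of k))) ⟶ Over.mk (C ↘ Spec (CommRingCat.of k)))) (M : C.Modules),
      b = (List.ofFn fun i => xs i ≫ j).prod ∧ PicF.IsInvertible M ∧ Module.finrank k (Coh.HH C M 0) = 1 ∧
      ∀ v : Fin g → (𝟙_ (Over (Spec (CommRingCat.of k))) ⟶ Over.mk (C ↘ Spec (CommRingCat.of k))),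
        b = (List.ofFn fun i => v i ≫ j).prod →
        PicF.cl M * (List.ofFn fun i => ptCl (C ↘ Spec (CommRingCat.of k)) (v i)).prod = 1 := by
  let f := C ↘ Spec (CommRingCat.of k)
  let P : Over (Spec (CommRingCat.of k)) := 𝟙_ _
  haveI : IsProper f := ‹_›
  haveI : Smooth f := ‹_›
  haveI : ConnectedSpace C := connectedSpace_of_geomConn f
  haveI : GeometricallyIntegral f := Groth.Agent.S7791.result f σ hσ
  haveI : IsIntegral C := GeometricallyIntegral.isIntegral_of_subsingleton f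
  haveI : SmoothOfRelativeDimension 1 f := Groth.Agent.HilbCurve.smoothOfRelativeDimension_one f hdim
  obtain ⟨J₀, ξ, hp, hsm, hi, hξ, huniv⟩ := Groth.Agent.PicCurve.exists_jacobian_field f hdim σ hσ
  haveI := hp; haveI := hsm; haveI := hi
  haveI : IrreducibleSpace J₀.left := GeometricallyIrreducible.irreducibleSpace_of_subsingleton J₀.hom
  letI := PicCurve.jacGrpObj f hdim σ hσ ξ hξ huniv
  haveI := jac_isCommMonObj f hdim σ hσ ξ hξ huniv
  obtain ⟨e, he, he', hej, hpt⟩ := exists_iso_jac_class f hdim σ hσ ξ hξ huniv hJ hj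
  haveI := he
  haveI := he'
  haveI : IsProper J.hom := by
    rw [← Over.w e.inv]
    infer_instance
  have htr'' : ∀ (n : ℕ) (v : Fin n → (P ⟶ Over.mk f)),
      (List.ofFn fun i => v i ≫ aj f hdim σ hσ ξ hξ huniv).prod ≫ e.hom = (List.ofFn fun i => v i ≫ j).prod := by
    intro m v
    rw [prod_comp_hom e.hom]
    congr 2
    funext i
    rw [Category.assoc]
    exact congrArg (v i ≫ ·) hej
  let b₀ := b ≫ e.inv
  obtain ⟨M, hMcl, hM⟩ := isInvertibleCl_clN f σ hσ ξ g b₀
  have hRRM := degX_cl (k := k) hdim.le hM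
  rw [hMcl, degX_clN f hdim σ hσ ξ hξ, CurveCohLib.Clifford.deg_eq k hdim hM, hg] at hRRM
  obtain ⟨xs, hxs⟩ := (mem_Wpts_iff hdim σ hσ ξ hξ huniv g b₀ hM hMcl).2 (by omega)
  have hb : b = (List.ofFn fun i => xs i ≫ j).prod := by
    rw [← htr'', ← hxs, Category.assoc, e.inv_hom_id, Category.comp_id]
  obtain ⟨N, hNcl, hN⟩ := isInvertibleCl_clN f σ hσ ξ (g - 1) (b₀ * (x₀ ≫ aj f hdim σ hσ ξ hξ huniv)⁻¹)
  have hN0 : Module.finrank k (Coh.HH C N 0) = 0 := by
    by_contra hne
    obtain ⟨v, hv⟩ := (mem_Wpts_iff hdim σ hσ ξ hξ huniv (g - 1) _ hN hNcl).2 (Nat.pos_of_ne_zero hne)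
    refine hout ⟨v, ?_⟩
    have h2 : (b₀ * (x₀ ≫ aj f hdim σ hσ ξ hξ huniv)⁻¹) ≫ e.hom = (List.ofFn fun i => v i ≫ j).prod := by
      rw [hv, htr'']
    rw [MonObj.mul_comp, GrpObj.inv_comp, Category.assoc, e.inv_hom_id, Category.comp_id, Category.assoc, hej] at h2
    exact h2
  have hRRN := degX_cl (k := k) hdim.le hN
  rw [hNcl, degX_clN f hdim σ hσ ξ hξ, CurveCohLib.Clifford.deg_eq k hdim hN, hg] at hRRN
  have hone : Module.finrank k (Coh.HH C M 0) ≤ 1 := by
    let p : C := x₀.left (show Spec (CommRingCat.of k) from IsLocalRing.closedPoint k)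
    have hp : IsClosed ({p} : Set C) := (pointEquivClosedPoint f ⟨x₀.left, Over.w x₀⟩).2
    have hker : x₀.left.ker = CurvePoint.ptIdeal p hp := by
      haveI := isClosedImmersion_pt f x₀
      haveI : Subsingleton P.left := inferInstanceAs (Subsingleton (PrimeSpectrum k))
      haveI : IsReduced P.left := inferInstanceAs (IsReduced (Spec (CommRingCat.of k)))
      refine CanonDual.ker_eq_vanishingIdeal x₀.left (Set.ext fun q => ⟨?_, ?_⟩)
      · rintro ⟨t, rfl⟩
        rw [Subsingleton.elim t (show Spec (CommRingCat.of k) from IsLocalRing.closedPoint k)]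
        rfl
      · intro hq
        exact ⟨_, (Set.mem_singleton_iff.1 hq).symm⟩
    have hcl : PicF.cl M * PicF.cl (CurvePoint.ptMod p hp) = PicF.cl N := by
      have h1 := clN_mul_aj hdim σ hσ ξ hξ huniv (g - 1) (b₀ * (x₀ ≫ aj f hdim σ hσ ξ hξ huniv)⁻¹) x₀
      rw [inv_mul_cancel_right, show g - 1 + 1 = g by omega, ← hMcl, ← hNcl, ptCl, hker] at h1
      exact h1
    have := h1_twist_cases k hdim hM hN x₀ p hp hker hcl
    omega
  refine ⟨xs, M, hb, hM, le_antisymm hone ((mem_Wpts_iff hdim σ hσ ξ hξ huniv g b₀ hM hMcl).1 ⟨xs, hxs⟩), fun v hv => ?_⟩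
  have hv₀ : b₀ = (List.ofFn fun i => v i ≫ aj f hdim σ hσ ξ hξ huniv).prod := by
    show b ≫ e.inv = _
    rw [hv, ← htr'', Category.assoc, e.hom_inv_id, Category.comp_id]
  have h0 := clN_mul_prod hdim σ hσ ξ hξ huniv g 0 1 v
  rw [_root_.one_mul, zero_add, ← hv₀, ← hMcl] at h0
  rw [h0]
  have := clN_mul_pow f σ hσ ξ 0 (1 : 𝟙_ (Over (Spec (CommRingCat.of k))) ⟶ J₀)
  rwa [pow_zero, _root_.mul_one, A_one f hdim σ hσ ξ hξ huniv] at this

end Groth.Agent.PicCurve.ThetaPull

end
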