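import Groth.Agent.PicCurve.ThetaPull.Family

/-!
# The inverse images of the translates of theta in the coarse Jacobian
-/

noncomputable section

set_option autoImplicit false
set_option linter.style.haveILetI false
set_option linter.unusedSectionVars false
set_option backward.isDefEq.respectTransparency false
set_option backward.isDefEq.respectTransparency.types false
set_option maxHeartbeats 1000000
set_option synthInstance.maxHeartbeats 400000
attribute [-instance] CategoryTheory.catToReflQuiver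

universe u

open CategoryTheory CategoryTheory.Limits AlgebraicGeometry TopologicalSpace
  MonoidalCategory CartesianMonoidalCategory
open scoped MonObj
open Groth.Agent.H23.PicMul

namespace Groth.Agent.PicCurve.ThetaPull

open Alb Pts

/-- the vanishing ideal pulls back along isomorphisms to the vanishing ideal of the inverse image -/
theorem comap_vanishingIdeal_iso {Y Z : Scheme.{u}} (g : Y ⟶ Z) [IsIso g] (S : Closeds Z) :
    (Scheme.IdealSheafData.vanishingIdeal S).comap g =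
      Scheme.IdealSheafData.vanishingIdeal (S.preimage g.continuous) := by
  let ι₀ := (Scheme.IdealSheafData.vanishingIdeal S).subschemeι
  haveI : IsReduced (Scheme.IdealSheafData.vanishingIdeal S).subscheme := inferInstance
  have h1 := comap_ker_comp (ι₀ ≫ inv g) g
  rw [Category.assoc, IsIso.inv_hom_id, Category.comp_id, Scheme.IdealSheafData.ker_subschemeι] at h1
  rw [h1]
  refine ker_eq_vanishingIdeal _ _ ?_
  have hr : Set.range ι₀ = (S : Set Z) := by
    rw [Scheme.IdealSheafData.range_subschemeι, Scheme.IdealSheafData.coe_support_vanishingIdeal]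
  have h2 : ∀ z : Z, g (inv g z) = z := fun z => congr($(IsIso.inv_hom_id g) z)
  have h3 : ∀ y : Y, inv g (g y) = y := fun y => congr($(IsIso.hom_inv_id g) y)
  have hrange : Set.range (ι₀ ≫ inv g) = g ⁻¹' (S : Set Z) := by
    ext y
    constructor
    · rintro ⟨w, rfl⟩
      show g (inv g (ι₀ w)) ∈ (S : Set Z)
      rw [h2, ← hr]
      exact ⟨w, rfl⟩
    · intro hy
      rw [Set.mem_preimage, ← hr] at hy
      obtain ⟨w, hw⟩ := hy
      exact ⟨w, (congrArg (inv g) hw).trans (h3 y)⟩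
  rw [hrange]
  exact (S.isClosed.preimage g.continuous).closure_eq

variable {k : Type u} [Field k] [IsAlgClosed k] (C : Scheme.{u}) [C.Over (Spec (CommRingCat.of k))]
  [IsProper (C ↘ Spec (CommRingCat.of k))] [Smooth (C ↘ Spec (CommRingCat.of k))]
  [GeometricallyConnected (C ↘ Spec (CommRingCat.of k))]
  (hdim : topologicalKrullDim C = 1) (σ : Spec (CommRingCat.of k) ⟶ C)
  (hσ : σ ≫ (C ↘ Spec (CommRingCat.of k)) = 𝟙 _)
  {J : Over (Spec (CommRingCat.of k))} [GrpObj J] [IsCommMonObj J]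
  {ψ : (ModFun.PicDeg (C ↘ Spec (CommRingCat.of k)) 0).Hom ⊤ J}
  (hJ : Jac.IsJacobian (C ↘ Spec (CommRingCat.of k)) ⊤ J ψ)
  {j : Over.mk (C ↘ Spec (CommRingCat.of k)) ⟶ J}
  (hj : Jac.IsAbelJacobiAt (C ↘ Spec (CommRingCat.of k)) σ ψ j)

theorem isIso_transl (a : 𝟙_ (Over (Spec (CommRingCat.of k))) ⟶ J) : IsIso (Jac.transl J a) :=
  ⟨Jac.transl J a⁻¹, Pts.transl_transl a, by
    have := Pts.transl_transl (a⁻¹ : 𝟙_ (Over (Spec (CommRingCat.of k))) ⟶ J)
    rwa [inv_inv] at this⟩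

theorem transl_comp (a b : 𝟙_ (Over (Spec (CommRingCat.of k))) ⟶ J) :
    Jac.transl J a ≫ Jac.transl J b = Jac.transl J (a * b) := by
  rw [Pts.comp_transl, Jac.transl, Jac.transl, MonObj.comp_mul, _root_.mul_assoc]

/-- the translated difference map from the curve times the Jacobian -/
abbrev thetaDiff (a₀ : 𝟙_ (Over (Spec (CommRingCat.of k))) ⟶ J) : PicF.XT (C ↘ Spec (CommRingCat.of k)) J ⟶ J.left :=
  (((fst (Over.mk (C ↘ Spec (CommRingCat.of k))) J ≫ j) *
    (snd (Over.mk (C ↘ Spec (CommRingCat.of k))) J)⁻¹) ≫ Jac.transl J a₀).left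

theorem thetaMinus_preimage (n : ℕ) (a₀ b : 𝟙_ (Over (Spec (CommRingCat.of k))) ⟶ J) :
    (Jac.transl J (b⁻¹ * a₀)).left.base ⁻¹' thetaMinus C (j := j) n a₀ = thetaMinus C (j := j) n b := by
  simp only [thetaMinus, image_transl]
  rw [← Set.preimage_comp, ← TopCat.coe_comp, ← Scheme.Hom.comp_base, ← Over.comp_left, transl_comp,
    mul_inv_cancel_right]

variable [LocallyOfFiniteType J.hom] [IsSeparated J.hom]

include hdim σ hσ hJ hj in
/-- the class of the inverse image of a translate of theta, and the universal family -/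
theorem coarse_family {g : ℕ} (hg : Curv2.genus k C = g) (hg1 : 1 ≤ g)
    (a₀ : 𝟙_ (Over (Spec (CommRingCat.of k))) ⟶ J) {L : J.left.Modules} (hL : PicF.IsInvertible L)
    (hLI : ClSub.IsInverseOf L (ClSub.idealMod
      (Scheme.IdealSheafData.vanishingIdeal ⟨closure (thetaMinus C (j := j) (g - 1) a₀), isClosed_closure⟩))) :
    (∀ v : Fin g → (𝟙_ (Over (Spec (CommRingCat.of k))) ⟶ Over.mk (C ↘ Spec (CommRingCat.of k))),
      (PicF.pullCl (j ≫ Jac.transl J ((List.ofFn fun i => v i ≫ j).prod⁻¹ * a₀)).left (PicF.cl L) : PicF.Cl C) *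
        (List.ofFn fun i => ptCl (C ↘ Spec (CommRingCat.of k)) (v i)).prod = 1) ∧
    ∀ (Pu : (PicF.XT (C ↘ Spec (CommRingCat.of k)) J).Modules)
      (hPu : ModFun.IsUnivFamily ⊤ (ModFun.PicDeg (C ↘ Spec (CommRingCat.of k)) 0) J Pu)
      (_ : Jac.IsNormAlong (C ↘ Spec (CommRingCat.of k)) σ hσ J Pu)
      (_ : ψ.app J Pu trivial hPu.1 = 𝟙 J),
      PicF.cl Pu * PicF.pullCl (PicF.XTproj (C ↘ Spec (CommRingCat.of k)) J)
          (PicF.pullCl ((𝟙 J)⁻¹ ≫ Jac.transl J a₀).left (PicF.cl L)) =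
        PicF.pullCl (thetaDiff C (j := j) a₀) (PicF.cl L) *
          tw (C ↘ Spec (CommRingCat.of k)) (δ σ) J ^ g := by
  let f := C ↘ Spec (CommRingCat.of k)
  let P : Over (Spec (CommRingCat.of k)) := 𝟙_ _
  haveI : IsProper f := ‹_›
  haveI : Smooth f := ‹_›
  haveI : ConnectedSpace C := connectedSpace_of_geomConn f
  haveI : GeometricallyIntegral f := Groth.Agent.S7791.result f σ hσ
  haveI : IsIntegral C := GeometricallyIntegral.isIntegral_of_subsingleton f
  haveI : SmoothOfRelativeDimension 1 f := Groth.Agent.HilbCurve.smoothOfRelativeDimension_one f hdim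
  obtain ⟨J₀, ξ, hp, hsm, hi, hξ, huniv⟩ := Groth.Agent.PicCurve.exists_jacobian_field f hdim σ hσ
  haveI := hp; haveI := hsm; haveI := hi
  haveI : IrreducibleSpace J₀.left := GeometricallyIrreducible.irreducibleSpace_of_subsingleton J₀.hom
  letI := PicCurve.jacGrpObj f hdim σ hσ ξ hξ huniv
  haveI := jac_isCommMonObj f hdim σ hσ ξ hξ huniv
  obtain ⟨e, he, he', hej, hpt⟩ := exists_iso_jac_class f hdim σ hσ ξ hξ huniv hJ hj
  haveI := he
  haveI := he'
  have hgen : gen f = g := hg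
  let α := aj f hdim σ hσ ξ hξ huniv
  let ε : J₀ ⟶ J := e.hom ≫ Jac.transl J a₀
  let l : PicF.Cl J₀.left := PicF.pullCl ε.left (PicF.cl L)
  have hl : PicF.IsInvertibleCl l := FppfPic.isInvertibleCl_pull _ ⟨L, rfl, hL⟩
  have hLI' : PicF.cl L * PicF.cl (ClSub.idealMod
      (Scheme.IdealSheafData.vanishingIdeal ⟨closure (thetaMinus C (j := j) (g - 1) a₀), isClosed_closure⟩)) = 1 := by
    rw [← cl_tensor]
    exact (cl_eq_iff.2 hLI).trans one_def.symm
  have hcomp : ∀ b : P ⟶ J₀, (α ≫ Jac.transl J₀ b⁻¹) ≫ ε = j ≫ Jac.transl J ((b ≫ e.hom)⁻¹ * a₀) := by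
    intro b
    rw [← transl_comp, ← hej]
    simp only [ε, ← Category.assoc]
    congr 1
    rw [Pts.comp_transl, Pts.comp_transl, MonObj.mul_comp, Category.assoc (toUnit _), GrpObj.inv_comp]
  have htup : ∀ (m : ℕ) (v : Fin m → (P ⟶ Over.mk f)),
      (List.ofFn fun i => v i ≫ α).prod ≫ e.hom = (List.ofFn fun i => v i ≫ j).prod := by
    intro m v
    rw [prod_comp_hom e.hom]
    congr 2
    funext i
    rw [Category.assoc]
    exact congrArg (v i ≫ ·) hej
  have hclN0 : clN f σ hσ ξ 0 1 = 1 := by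
    have := clN_mul_pow f σ hσ ξ 0 (1 : P ⟶ J₀)
    rwa [pow_zero, _root_.mul_one, A_one f hdim σ hσ ξ hξ huniv] at this
  have hprod : ∀ v : Fin g → (P ⟶ Over.mk f),
      clN f σ hσ ξ g (List.ofFn fun i => v i ≫ α).prod * (List.ofFn fun i => ptCl f (v i)).prod = 1 := by
    intro v
    have h0 := clN_mul_prod hdim σ hσ ξ hξ huniv g 0 1 v
    rwa [_root_.one_mul, zero_add, hclN0] at h0
  have H : ∀ b : P ⟶ J₀, pt b ∈ goodU f σ hσ ξ →
      PicF.pullCl (α ≫ Jac.transl J₀ b⁻¹).left l = clN f σ hσ ξ (gen f) b := by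
    intro b hb
    obtain ⟨D⟩ := nonempty_tower (f := f) hdim σ hσ
    obtain ⟨E, hE⟩ := exists_div f (𝟙 _) hdim σ hσ ξ hξ huniv D b
    obtain ⟨xs', hxs'⟩ := exists_tuple hdim σ hσ ξ hξ huniv D (gen f) E
    obtain ⟨xs, hxs⟩ : ∃ xs : Fin g → (P ⟶ Over.mk f), b = (List.ofFn fun i => xs i ≫ α).prod := by
      subst hgen
      exact ⟨xs', hE.symm.trans hxs'⟩
    obtain ⟨M, hMcl, hM⟩ := isInvertibleCl_clN f σ hσ ξ (gen f) b
    have h1 := h0_eq_one_of_good hdim σ hσ ξ b hb hM hMcl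
    have hcl : PicF.cl M * (List.ofFn fun i => ptCl f (xs i)).prod = 1 := by
      rw [hMcl, hgen, hxs]
      exact hprod xs
    let bJ := b ≫ e.hom
    have hbJ : bJ = (List.ofFn fun i => xs i ≫ j).prod := by
      show b ≫ e.hom = _
      rw [hxs, htup]
    have hcomap := comap_thetaMinus C hdim σ hσ hJ hj hg hg1 xs bJ hbJ hM hcl h1
    haveI : IsIso (Jac.transl J (bJ⁻¹ * a₀)) := isIso_transl _
    haveI : IsIso (Jac.transl J (bJ⁻¹ * a₀)).left := inferInstanceAs (IsIso ((Over.forget _).map (Jac.transl J (bJ⁻¹ * a₀))))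
    have hid : (Scheme.IdealSheafData.vanishingIdeal ⟨closure (thetaMinus C (j := j) (g - 1) a₀), isClosed_closure⟩).comap
        (j ≫ Jac.transl J (bJ⁻¹ * a₀)).left = ∏ i, (xs i).left.ker := by
      rw [Over.comp_left, Scheme.IdealSheafData.comap_comp, comap_vanishingIdeal_iso, ← hcomap]
      congr 2
      refine SetLike.coe_injective ?_
      show (Jac.transl J (bJ⁻¹ * a₀)).left.base ⁻¹' closure (thetaMinus C (j := j) (g - 1) a₀) = closure _
      rw [(isClosed_thetaMinus C (g - 1) a₀).closure_eq, (isClosed_thetaMinus C (g - 1) bJ).closure_eq,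
        thetaMinus_preimage]
    obtain ⟨hEC, hECcl⟩ := effCartier_prod f xs
    have h2 := pullCl_mul_ideal (j ≫ Jac.transl J (bJ⁻¹ * a₀)).left hL hLI' (by rw [hid]; exact hEC)
    rw [hid, hECcl] at h2
    refine eq_of_invCl_mul (isInvertibleCl_prod_pt f g xs) ?_
    rw [hgen, hxs, hprod xs, ← hxs]
    show PicF.pullCl _ (PicF.pullCl ε.left _) * _ = 1
    rw [PicClLib.pullCl_comp, ← Over.comp_left, hcomp]
    exact h2
  obtain ⟨hall, hξeq⟩ := family_eq f hdim σ hσ ξ hξ huniv l hl H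
  refine ⟨fun v => ?_, fun Pu hPu hPn hPuψ => ?_⟩
  · rw [← htup, ← hcomp, Over.comp_left, ← PicClLib.pullCl_comp, hall, hgen]
    exact hprod v
  · obtain ⟨hPi, hPd⟩ := (ok_iff f hdim 0 J Pu).1 hPu.1
    have hPc : PicF.IsInvertibleCl (PicF.cl Pu) := ⟨Pu, rfl, hPi⟩
    obtain ⟨g₀, hg₀, -⟩ := huniv J ⟨PicF.cl Pu, hPc, hPn.trans one_def.symm⟩
      ((hasFibreDegreeZeroCl_iff f _).2 fun s => (deg0At_iff f _ _).2 (hPd s))
    have hψ : ψ.app J Pu trivial hPu.1 = g₀ ≫ e.hom := hpt J Pu hPu.1 g₀ 1 Alb.isInvertibleCl_one (by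
      rw [pullCl_one, _root_.mul_one]
      exact hg₀.symm)
    rw [hPuψ] at hψ
    have hg₀e : g₀ = e.inv := by
      rw [← cancel_mono e.hom, ← hψ, e.inv_hom_id]
    subst hg₀e
    have h3 := congrArg (PicF.pullCl (PicF.XTmap f e.inv)) hξeq
    rw [pullCl_mul, pullCl_mul, hg₀, Alb.pullCl_pow, tw_pull, hgen, PicClLib.pullCl_comp (PicF.XTmap f e.inv)
      (PicF.XTproj f J₀), show PicF.XTmap f e.inv ≫ PicF.XTproj f J₀ = PicF.XTproj f J ≫ e.inv.left from
      pullback.lift_snd _ _ _, ← PicClLib.pullCl_comp (PicF.XTproj f J) e.inv.left] at h3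
    have e1 : e.inv ≫ (𝟙 J₀)⁻¹ ≫ ε = (𝟙 J)⁻¹ ≫ Jac.transl J a₀ := by
      simp only [ε, ← Category.assoc]
      congr 1
      rw [GrpObj.comp_inv, Category.comp_id, GrpObj.inv_comp, e.inv_hom_id]
    have hw : PicF.XTmap f e.inv = (Over.mk f ◁ e.inv).left := by
      refine pullback.hom_ext ?_ ?_
      · exact ((pullback.lift_fst _ _ _).trans (Category.comp_id _)).trans
          congr($(whiskerLeft_fst (Over.mk f) e.inv).left).symm
      · exact (pullback.lift_snd _ _ _).trans congr($(whiskerLeft_snd (Over.mk f) e.inv).left).symm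
    have e2 : (Over.mk f ◁ e.inv) ≫ diffMap f hdim σ hσ ξ hξ huniv ≫ ε =
        ((fst (Over.mk f) J ≫ j) * (snd (Over.mk f) J)⁻¹) ≫ Jac.transl J a₀ := by
      simp only [ε, ← Category.assoc]
      congr 1
      rw [diffMap, MonObj.comp_mul, GrpObj.comp_inv, whiskerLeft_fst_assoc, whiskerLeft_snd, MonObj.mul_comp,
        GrpObj.inv_comp, Category.assoc, Category.assoc, e.inv_hom_id, Category.comp_id, ← hej]
    refine Eq.trans ?_ (h3.trans ?_)
    · congr 2
      show _ = PicF.pullCl _ (PicF.pullCl _ (PicF.pullCl ε.left _))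
      rw [PicClLib.pullCl_comp, PicClLib.pullCl_comp, Category.assoc]
      exact congrArg (fun m => PicF.pullCl m (PicF.cl L)) congr($(e1).left).symm
    · congr 1
      show PicF.pullCl _ (PicF.pullCl _ (PicF.pullCl ε.left _)) = _
      rw [PicClLib.pullCl_comp, PicClLib.pullCl_comp, hw, Category.assoc]
      exact congrArg (fun m => PicF.pullCl m (PicF.cl L)) congr($(e2).left)

end Groth.Agent.PicCurve.ThetaPull

end
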