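import Groth.Agent.PicCurve.ThetaPull.Image
import Groth.Agent.PicCurve.Alb.Mono
import Groth.Agent.PicCurve.Pts.Div
import Groth.Agent.PicCurve.Pts.Sets

/-!
# The inverse image of a translate of the inverted sums of genus minus one points
-/

noncomputable section

set_option autoImplicit false
set_option linter.style.haveILetI false
set_option linter.unusedSectionVars false
set_option backward.isDefEq.respectTransparency false
set_option backward.isDefEq.respectTransparency.types false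
set_option maxHeartbeats 1000000
set_option synthInstance.maxHeartbeats 400000
attribute [-instance] CategoryTheory.catToReflQuiver

universe u

open CategoryTheory CategoryTheory.Limits AlgebraicGeometry TopologicalSpace
  MonoidalCategory CartesianMonoidalCategory
open scoped MonObj
open Groth.Agent.H23.PicMul

namespace Groth.Agent.PicCurve.ThetaPull

open Alb Pts HilbDLib

variable {k : Type u} [Field k] [IsAlgClosed k] {X : Scheme.{u}} (f : X ⟶ Spec (CommRingCat.of k))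
  [IsProper f] [Smooth f] [SmoothOfRelativeDimension 1 f] [GeometricallyIntegral f] [IsIntegral X]

theorem isClosedImmersion_pt (y : 𝟙_ (Over (Spec (CommRingCat.of k))) ⟶ Over.mk f) : IsClosedImmersion y.left := by
  haveI : IsClosedImmersion (y.left ≫ f) := by
    rw [show y.left ≫ f = 𝟙 _ from Over.w y]; infer_instance
  exact IsClosedImmersion.of_comp y.left f

/-- the graph of a rational point is the inverse image of its ideal -/
theorem gr_pt (y : 𝟙_ (Over (Spec (CommRingCat.of k))) ⟶ Over.mk f) : gr y = y.left.ker.comap (p₁ f) := by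
  haveI := isClosedImmersion_pt f y
  haveI : IsClosedImmersion (sc y ≫ p₁ f) := (sec_fst f _ _ _).symm ▸ isClosedImmersion_pt f y
  haveI : IsClosedImmersion (sc y) := IsClosedImmersion.of_comp (sc y) (p₁ f)
  rw [show gr y = (sc y).ker from secGraph_eq f _ _ _, ← FComplLib.ker_comp_comap (sc y) (p₁ f)]
  congr 2
  exact sec_fst f _ _ _

/-- the divisor of a tuple of points -/
theorem exists_pointsDiv (D : Tower f) : ∀ (n : ℕ) (x : Fin n → (𝟙_ (Over (Spec (CommRingCat.of k))) ⟶ Over.mk f)),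
    ∃ E : 𝟙_ (Over (Spec (CommRingCat.of k))) ⟶ D.H n,
      HilbD.pull f E (D.Z n).1 = (∏ i, (x i).left.ker).comap (p₁ f) ∧
      ∀ (hdim : topologicalKrullDim X = 1) {A : Over (Spec (CommRingCat.of k))} [GrpObj A] [IsCommMonObj A]
        [IsSeparated A.hom] (φ : Over.mk f ⟶ A), E ≫ sum D φ hdim n = (List.ofFn fun i => x i ≫ φ).prod := by
  intro n
  induction n with
  | zero =>
    intro x
    obtain ⟨E, -, -⟩ := D.univ 0 _ ⟨⊤, deg_zero_top f (𝟙_ (Over (Spec (CommRingCat.of k))))⟩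
    refine ⟨E, ?_, fun hdim A _ _ _ φ => by rw [List.ofFn_zero, List.prod_nil, sum_zero, MonObj.comp_one]⟩
    rw [Finset.univ_eq_empty, Finset.prod_empty, show (1 : X.IdealSheafData) = ⊤ from rfl,
      RelCurveDiv.eq_top_of_deg_zero _ _ (isFinLocFreeOfDeg_pull f E _ (D.Z 0).2), Scheme.IdealSheafData.comap_top]
  | succ n ih =>
    intro x
    obtain ⟨E₀, hE₀, hE₀'⟩ := ih fun i => x i.castSucc
    refine ⟨pair E₀ (x (Fin.last n)) ≫ D.m n, ?_, fun hdim A _ _ _ φ => ?_⟩
    · rw [← pull_pull, D.pull_m, HilbDLib.pull_mul, pull_pull, pull_gr, pair_prH, pair_prX, hE₀, gr_pt,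
        Fin.prod_univ_castSucc, FComplLib.comap_mul]
    · rw [Category.assoc, pair_m_sum D φ hdim n E₀ (x (Fin.last n)), List.ofFn_succ', List.prod_concat, hE₀' hdim φ]

/-- containment of a constant divisor in a graph -/
theorem pull_le_gr_iff {T : Over (Spec (CommRingCat.of k))} (I : X.IdealSheafData) (t : T ⟶ Over.mk f) :
    HilbD.pull f (toUnit T) (I.comap (p₁ f)) ≤ gr t ↔ I ≤ t.left.ker := by
  rw [pull_eq_comap, ← Scheme.IdealSheafData.comap_comp,
    show PicF.XTmap f (toUnit T) ≫ p₁ f = pullback.fst f T.hom by simp [PicF.XTmap, p₁],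
    show gr t = (sc t).ker from secGraph_eq f _ _ _, ← Scheme.IdealSheafData.le_map_iff_comap_le,
    Scheme.IdealSheafData.map_ker, show sc t ≫ pullback.fst f T.hom = t.left from sec_fst f _ _ _]

variable (hdim : topologicalKrullDim X = 1) (σ : Spec (CommRingCat.of k) ⟶ X) (hσ : σ ≫ f = 𝟙 _)
  {J : Over (Spec (CommRingCat.of k))} [IsProper J.hom] (ξ : PicF.Rig f σ hσ J)
  (hξ : FGA.HasFibreDegreeZeroCl f J ξ.1)
  (huniv : ∀ (T : Over (Spec (CommRingCat.of k))) (c : PicF.Rig f σ hσ T), FGA.HasFibreDegreeZeroCl f T c.1 →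
    ∃! g : T ⟶ J, PicF.pullCl (PicF.XTmap f g) ξ.1 = c.1)

/-- minus the sum, translated -/
def nu (D : Tower f) (n : ℕ) (a : 𝟙_ (Over (Spec (CommRingCat.of k))) ⟶ J) : D.H n ⟶ J :=
  letI := jacGrpObj f hdim σ hσ ξ hξ huniv
  (toUnit (D.H n) ≫ a) * (toJ f hdim σ hσ ξ hξ huniv D n)⁻¹

theorem comp_nu (D : Tower f) (n : ℕ) (a : 𝟙_ (Over (Spec (CommRingCat.of k))) ⟶ J)
    {T : Over (Spec (CommRingCat.of k))} (h : T ⟶ D.H n) :
    letI := jacGrpObj f hdim σ hσ ξ hξ huniv
    h ≫ nu f hdim σ hσ ξ hξ huniv D n a = (toUnit T ≫ a) * (h ≫ toJ f hdim σ hσ ξ hξ huniv D n)⁻¹ := by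
  letI := jacGrpObj f hdim σ hσ ξ hξ huniv
  rw [nu, MonObj.comp_mul, GrpObj.comp_inv, ← Category.assoc, toUnit_unique (h ≫ toUnit _) (toUnit T)]

include hdim hξ huniv in
/-- the inverse image along the Abel map is the divisor -/
theorem comap_ker_nu (D : Tower f) {n : ℕ} (hn : gen f = n + 1)
    (x : Fin (n + 1) → (𝟙_ (Over (Spec (CommRingCat.of k))) ⟶ Over.mk f))
    (a : 𝟙_ (Over (Spec (CommRingCat.of k))) ⟶ J)
    (hax : letI := jacGrpObj f hdim σ hσ ξ hξ huniv
      a = (List.ofFn fun i => x i ≫ aj f hdim σ hσ ξ hξ huniv).prod)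
    (ha : pt a ∈ goodU f σ hσ ξ) :
    (nu f hdim σ hσ ξ hξ huniv D n a).left.ker.comap (aj f hdim σ hσ ξ hξ huniv).left = ∏ i, (x i).left.ker := by
  letI := jacGrpObj f hdim σ hσ ξ hξ huniv
  haveI := jac_isCommMonObj f hdim σ hσ ξ hξ huniv
  let P : Over (Spec (CommRingCat.of k)) := 𝟙_ _
  let α := aj f hdim σ hσ ξ hξ huniv
  let Φ := toJ f hdim σ hσ ξ hξ huniv D
  let ν := nu f hdim σ hσ ξ hξ huniv D n a
  haveI : IsProper (D.H n).hom := D.proper n
  haveI : IsProper (ν.left ≫ J.hom) := by rw [Over.w]; infer_instance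
  haveI : IsProper ν.left := IsProper.of_comp _ J.hom
  haveI : LocallyOfFiniteType (Over.mk f).hom := inferInstanceAs (LocallyOfFiniteType f)
  obtain ⟨E, hE, hEsum⟩ := exists_pointsDiv f D (n + 1) x
  have hEa : E ≫ Φ (n + 1) = a := (hEsum hdim α).trans hax.symm
  have hgoodE : ∀ {T : Over (Spec (CommRingCat.of k))} (t : T.left), (toUnit T ≫ a).left t ∈ goodU f σ hσ ξ :=
    fun {T} t => (forall_mem_iff a _).2 ha _
  have hinj : ∀ {T : Over (Spec (CommRingCat.of k))} (h h' : T ⟶ D.H (n + 1)),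
      (∀ t, (h ≫ Φ (n + 1)).left t ∈ goodU f σ hσ ξ) → h ≫ Φ (n + 1) = h' ≫ Φ (n + 1) → h = h' := by
    intro T h h' hU e
    have := toJ_inj f hdim σ hσ ξ hξ huniv D (T := T)
    rw [hn] at this
    exact this h h' (fun t => by rw [← Scheme.Hom.comp_apply, ← Over.comp_left]; exact hU t) e
  have hDT : ∀ {T : Over (Spec (CommRingCat.of k))} (t : T ⟶ Over.mk f),
      HilbD.pull f (toUnit T ≫ E) (D.Z (n + 1)).1 ≤ gr t ↔ (∏ i, (x i).left.ker) ≤ t.left.ker := fun {T} t => by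
    rw [← pull_pull, hE]
    exact pull_le_gr_iff f _ t
  refine le_antisymm ?_ ?_
  · -- the divisor lies in the inverse image
    rw [← Scheme.IdealSheafData.le_map_iff_comap_le, ← Scheme.IdealSheafData.ker_subschemeι (∏ i, (x i).left.ker),
      Scheme.IdealSheafData.map_ker]
    let T : Over (Spec (CommRingCat.of k)) := Over.mk ((∏ i, (x i).left.ker).subschemeι ≫ f)
    let t : T ⟶ Over.mk f := Over.homMk (∏ i, (x i).left.ker).subschemeι rfl
    obtain ⟨I, hI, hsplit⟩ := RelCurveDiv.difference_finLocFreeOfDeg (PicF.XTproj f T) (gr t)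
      (HilbD.pull f (toUnit T ≫ E) (D.Z (n + 1)).1)
      ((hDT t).2 (Scheme.IdealSheafData.ker_subschemeι _).ge) 1 (n + 1) (grObj f t).2
      (isFinLocFreeOfDeg_pull f _ _ (D.Z (n + 1)).2)
    rw [Nat.add_sub_cancel] at hI
    obtain ⟨E', hE', -⟩ := D.univ n T ⟨I, hI⟩
    have hpair : pair E' t ≫ D.m n = toUnit T ≫ E := by
      refine (D.univ (n + 1) T ⟨_, isFinLocFreeOfDeg_pull f (toUnit T ≫ E) _ (D.Z (n + 1)).2⟩).unique ?_ rfl
      show HilbD.pull f (pair E' t ≫ D.m n) (D.Z (n + 1)).1 = _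
      rw [← pull_pull, D.pull_m, HilbDLib.pull_mul, pull_pull, pull_gr, pair_prH, pair_prX, hE']
      exact ((mul_comm _ _).trans hsplit.symm)
    have hsum : (E' ≫ Φ n) * (t ≫ α) = toUnit T ≫ a := by
      refine (pair_m_sum D α hdim n E' t).symm.trans ?_
      rw [← hEa, ← Category.assoc, hpair, Category.assoc]
      rfl
    have hfac : t ≫ α = E' ≫ ν := by
      rw [comp_nu, ← hsum]
      exact (mul_div_cancel_left _ _).symm.trans (div_eq_mul_inv _ _)
    rw [show (∏ i, (x i).left.ker).subschemeι ≫ α.left = E'.left ≫ ν.left from congr($(hfac).left)]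
    exact Scheme.Hom.le_ker_comp _ _
  · -- the inverse image lies in the divisor
    let Z₀ := ν.left.ker.comap α.left
    let T : Over (Spec (CommRingCat.of k)) := Over.mk (Z₀.subschemeι ≫ f)
    let t : T ⟶ Over.mk f := Over.homMk Z₀.subschemeι rfl
    let ρ : (P ⟶ Over.mk f) → (J ⟶ J) := fun y => (toUnit J ≫ (a * (y ≫ α))) * (𝟙 J)⁻¹
    have hρ : ∀ (y : P ⟶ Over.mk f) {W : Over (Spec (CommRingCat.of k))} (w : W ⟶ J),
        w ≫ ρ y = (toUnit W ≫ (a * (y ≫ α))) * w⁻¹ := fun y {W} w => by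
      rw [MonObj.comp_mul, GrpObj.comp_inv, Category.comp_id, ← Category.assoc, toUnit_unique (w ≫ toUnit _) (toUnit W)]
    let U : J.left.Opens := ⨆ y, (ρ y).left ⁻¹ᵁ goodU f σ hσ ξ
    have hαU : ∀ c : X, α.left c ∈ U := by
      intro c
      haveI : JacobsonSpace X := LocallyOfFiniteType.jacobsonSpace f
      by_contra hc
      obtain ⟨c₀, hc₀, hc₀'⟩ := nonempty_inter_closedPoints (X := X) (Z := ((α.left ⁻¹ᵁ U : X.Opens) : Set X)ᶜ)
        ⟨c, hc⟩ (α.left ⁻¹ᵁ U).isOpen.isClosed_compl.isLocallyClosed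
      obtain ⟨y, rfl⟩ := exists_pt (Y := Over.mk f) hc₀'
      refine hc₀ (Opens.mem_iSup.2 ⟨y, ?_⟩)
      show (ρ y).left (α.left (pt y)) ∈ goodU f σ hσ ξ
      have h1 : (y ≫ α) ≫ ρ y = a := by
        rw [hρ, toUnit_unique (toUnit P) (𝟙 _), Category.id_comp, mul_inv_cancel_right]
      rw [pt_comp, pt_comp, h1]
      exact ha
    haveI : Mono (ν.left ∣_ U) := ⟨fun {W} u v huv => by
      rw [← cancel_mono (ν.left ⁻¹ᵁ U).ι]
      have huv' : (u ≫ (ν.left ⁻¹ᵁ U).ι) ≫ ν.left = (v ≫ (ν.left ⁻¹ᵁ U).ι) ≫ ν.left := by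
        simp only [Category.assoc, ← morphismRestrict_ι]
        rw [reassoc_of% huv]
      let T' : Over (Spec (CommRingCat.of k)) := Over.mk ((u ≫ (ν.left ⁻¹ᵁ U).ι) ≫ (D.H n).hom)
      let h : T' ⟶ D.H n := Over.homMk (u ≫ (ν.left ⁻¹ᵁ U).ι) rfl
      let h' : T' ⟶ D.H n := Over.homMk (v ≫ (ν.left ⁻¹ᵁ U).ι) (by
        show (v ≫ (ν.left ⁻¹ᵁ U).ι) ≫ (D.H n).hom = (u ≫ (ν.left ⁻¹ᵁ U).ι) ≫ (D.H n).hom
        rw [← Over.w ν, ← Category.assoc, ← huv', Category.assoc])
      have e : h ≫ ν = h' ≫ ν := Over.OverMorphism.ext huv'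
      suffices h = h' from congr($(this).left)
      refine Over.OverMorphism.ext (Scheme.hom_ext_of_forall _ _ fun w => ?_)
      have hw : (h ≫ ν).left w ∈ U := (u w).2
      obtain ⟨y, hy⟩ := Opens.mem_iSup.1 hw
      let O : T'.left.Opens := (h ≫ ν ≫ ρ y).left ⁻¹ᵁ goodU f σ hσ ξ
      refine ⟨O, hy, ?_⟩
      let g := AbDual.ovrHom T' O.ι
      let y' := toUnit (AbDual.ovr T' O.ι) ≫ y
      have hev : ∀ h₁ : T' ⟶ D.H n, (pair (g ≫ h₁) y' ≫ D.m n) ≫ Φ (n + 1) = g ≫ h₁ ≫ ν ≫ ρ y := by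
        intro h₁
        rw [Category.assoc]
        refine (pair_m_sum D α hdim n (g ≫ h₁) y').trans ?_
        rw [← Category.assoc g h₁, ← Category.assoc (g ≫ h₁) ν (ρ y), hρ, comp_nu, MonObj.comp_mul]
        simp only [y', Category.assoc, Φ, toJ, α]
        rw [_root_.mul_inv_rev, inv_inv, mul_assoc, mul_left_comm _ (g ≫ h₁ ≫ sum D _ hdim n),
          ← mul_assoc (toUnit _ ≫ a), mul_comm (toUnit _ ≫ a) (g ≫ h₁ ≫ sum D _ hdim n), mul_assoc]
        rw [mul_inv_cancel_comm_assoc]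
      have e1 := hinj (pair (g ≫ h) y' ≫ D.m n) (pair (g ≫ h') y' ≫ D.m n)
        (fun z => by rw [hev]; exact z.2) (by rw [hev, hev, reassoc_of% e])
      have e3 := congrArg (fun h => HilbD.pull f h (D.Z (n + 1)).1) e1
      simp only [← pull_pull f (pair (g ≫ h) y'), ← pull_pull f (pair (g ≫ h') y'), D.pull_m, HilbDLib.pull_mul] at e3
      simp only [pull_pull, pull_gr, pair_prH, pair_prX] at e3
      have e4 : HilbD.pull f (g ≫ h) (D.Z n).1 = HilbD.pull f (g ≫ h') (D.Z n).1 :=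
        RelCurveDiv.div_cancel (PicF.XTproj f _) (grObj f y').2 ((mul_comm _ _).trans (e3.trans (mul_comm _ _)))
      exact congr($((D.univ n _ ⟨_, isFinLocFreeOfDeg_pull f (g ≫ h) _ (D.Z n).2⟩).unique
        (y₁ := g ≫ h) (y₂ := g ≫ h') rfl e4.symm).left)⟩
    obtain ⟨E₀, hE₀⟩ := lift_of_mono ν.left U (t ≫ α).left (fun w => hαU _) (by
      show ν.left.ker ≤ (Z₀.subschemeι ≫ α.left).ker
      rw [← Scheme.IdealSheafData.map_ker, Scheme.IdealSheafData.ker_subschemeι]
      exact Scheme.IdealSheafData.le_map_comap _ _)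
    let E' : T ⟶ D.H n := Over.homMk E₀ (by rw [← Over.w ν, reassoc_of% hE₀, Over.w (t ≫ α)])
    have hfac : E' ≫ ν = t ≫ α := Over.OverMorphism.ext hE₀
    have hsum : (pair E' t ≫ D.m n) ≫ Φ (n + 1) = toUnit T ≫ a := by
      rw [Category.assoc]
      refine (pair_m_sum D α hdim n E' t).trans ?_
      rw [← hfac, comp_nu, mul_comm]
      exact inv_mul_cancel_right _ _
    have hpair := hinj _ (toUnit T ≫ E) (fun w => by rw [hsum]; exact hgoodE w)
      (by rw [hsum, Category.assoc, hEa])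
    have hle : HilbD.pull f (toUnit T ≫ E) (D.Z (n + 1)).1 ≤ gr t := by
      rw [← hpair, ← pull_pull, D.pull_m, HilbDLib.pull_mul, pull_pull, pull_gr, pair_prH, pair_prX]
      exact fun U => by simp only [Scheme.IdealSheafData.ideal_mul, Pi.mul_apply]; exact Ideal.mul_le_right
    exact ((hDT t).1 hle).trans (Scheme.IdealSheafData.ker_subschemeι _).le

end Groth.Agent.PicCurve.ThetaPull

end
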