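import Groth.Agent.PicCurve.Pts.Generic
import Groth.Agent.PicCurve.Pts.Sets
import Groth.Agent.PicCurve.Pts.Unique
import Groth.Agent.PicCurve.ThetaPull.Core

/-!
# Products of ideals of rational points of a curve
-/

noncomputable section

set_option autoImplicit false
set_option linter.style.haveILetI false
set_option linter.unusedSectionVars false
set_option backward.isDefEq.respectTransparency false
set_option backward.isDefEq.respectTransparency.types false
set_option maxHeartbeats 1000000
attribute [-instance] CategoryTheory.catToReflQuiver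

universe u

open CategoryTheory CategoryTheory.Limits AlgebraicGeometry TopologicalSpace
  MonoidalCategory CartesianMonoidalCategory

namespace Groth.Agent.PicCurve.ThetaPull

open Pts

variable {k : Type u} [Field k] [IsAlgClosed k] {X : Scheme.{u}} (f : X ⟶ Spec (CommRingCat.of k)) [IsProper f]
  [Smooth f] [SmoothOfRelativeDimension 1 f] [GeometricallyIntegral f] [IsIntegral X]

theorem mem_support_ker_pt (y : 𝟙_ (Over (Spec (CommRingCat.of k))) ⟶ Over.mk f) (p : (Over.mk f).left) :
    p ∈ (y.left.ker.support : Set (Over.mk f).left) ↔ p = pt y := by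
  haveI := isClosedImmersion_pt f y
  haveI : Subsingleton (𝟙_ (Over (Spec (CommRingCat.of k)))).left := inferInstanceAs (Subsingleton (PrimeSpectrum k))
  rw [Scheme.Hom.support_ker, y.left.isClosedEmbedding.isClosed_range.closure_eq]
  constructor
  · rintro ⟨t, rfl⟩
    rw [Subsingleton.elim t (show Spec (CommRingCat.of k) from IsLocalRing.closedPoint k)]
    rfl
  · rintro rfl
    exact ⟨_, rfl⟩

theorem mem_support_prod : ∀ {n : ℕ} (x : Fin n → (𝟙_ (Over (Spec (CommRingCat.of k))) ⟶ Over.mk f)) (p : (Over.mk f).left),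
    p ∈ ((∏ i, (x i).left.ker).support : Set (Over.mk f).left) ↔ ∃ i, p = pt (x i)
  | 0, x, p => by
    rw [Finset.univ_eq_empty, Finset.prod_empty, show (1 : X.IdealSheafData) = ⊤ from rfl,
      Scheme.IdealSheafData.support_top]
    simp
  | n + 1, x, p => by
    rw [Fin.prod_univ_castSucc, Scheme.IdealSheafData.support_mul, Closeds.coe_sup, Set.mem_union,
      mem_support_prod (fun i => x i.castSucc) p, mem_support_ker_pt, Fin.exists_fin_succ']

/-- the ideal of a divisor determines the points with multiplicities -/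
theorem exists_perm : ∀ {n : ℕ} (x y : Fin n → (𝟙_ (Over (Spec (CommRingCat.of k))) ⟶ Over.mk f)),
    (∏ i, (x i).left.ker) = (∏ i, (y i).left.ker) → ∃ e : Equiv.Perm (Fin n), ∀ i, x i = y (e i)
  | 0, x, y, _ => ⟨Equiv.refl _, fun i => i.elim0⟩
  | n + 1, x, y, h => by
    classical
    haveI : LocallyOfFiniteType (Over.mk f).hom := inferInstanceAs (LocallyOfFiniteType f)
    obtain ⟨l, hl⟩ := (mem_support_prod f y (pt (x (Fin.last n)))).1
      (h ▸ (mem_support_prod f x (pt (x (Fin.last n)))).2 ⟨_, rfl⟩)
    have hl' : x (Fin.last n) = y l := pt_injective hl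
    let τ : Equiv.Perm (Fin (n + 1)) := Equiv.swap l (Fin.last n)
    have hy : (∏ i, (y i).left.ker) = ∏ i, (y (τ i)).left.ker :=
      (Equiv.prod_comp τ (fun i => (y i).left.ker)).symm
    rw [hy, Fin.prod_univ_castSucc, Fin.prod_univ_castSucc] at h
    rw [show τ (Fin.last n) = l from Equiv.swap_apply_right _ _, ← hl'] at h
    obtain ⟨e, he⟩ := exists_perm (fun i => x i.castSucc) (fun i => y (τ i.castSucc))
      (ModPairLib.eq_of_mul_eq_mul (Alb.effCartier_ker f (x (Fin.last n)).left (Over.w _)) h)
    let e' : Equiv.Perm (Fin (n + 1)) :=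
      ((finSuccEquivLast).trans (e.optionCongr)).trans finSuccEquivLast.symm
    refine ⟨e'.trans τ, fun i => ?_⟩
    refine Fin.lastCases ?_ (fun j => ?_) i
    · simp [e', τ, hl']
    · simp [e', he j]

/-- the ideal of distinct points -/
theorem prod_eq_iInf {n : ℕ} (x : Fin n → (𝟙_ (Over (Spec (CommRingCat.of k))) ⟶ Over.mk f))
    (hx : Function.Injective x) : (∏ i, (x i).left.ker) = ⨅ i, (x i).left.ker := by
  classical
  haveI : LocallyOfFiniteType (Over.mk f).hom := inferInstanceAs (LocallyOfFiniteType f)
  have hcop : ∀ i j, i ≠ j → (x i).left.ker ⊔ (x j).left.ker = ⊤ := fun i j hij => by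
    rw [← Scheme.IdealSheafData.support_eq_bot_iff]
    refine SetLike.coe_injective (Set.eq_empty_iff_forall_notMem.2 fun p hp => hij ?_)
    rw [Scheme.IdealSheafData.support_sup, Closeds.coe_inf] at hp
    exact hx (pt_injective (((mem_support_ker_pt f (x i) p).1 hp.1).symm.trans ((mem_support_ker_pt f (x j) p).1 hp.2)))
  have hprod : ∀ (s : Finset (Fin n)) (U : X.affineOpens),
      (∏ i ∈ s, (x i).left.ker).ideal U = ∏ i ∈ s, ((x i).left.ker).ideal U := fun s U => by
    induction s using Finset.induction_on with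
    | empty =>
      rw [Finset.prod_empty, Finset.prod_empty, show (1 : (Over.mk f).left.IdealSheafData) = ⊤ from rfl,
        Scheme.IdealSheafData.ideal_top, Pi.top_apply, Ideal.one_eq_top]
    | insert a s ha ih => rw [Finset.prod_insert ha, Finset.prod_insert ha, Scheme.IdealSheafData.ideal_mul, Pi.mul_apply, ih]
  ext U : 1
  funext U
  rw [hprod, Scheme.IdealSheafData.ideal_iInf, iInf_apply, Ideal.prod_eq_iInf_of_pairwise_isCoprime]
  · simp
  · intro i _ j _ hij
    show IsCoprime _ _
    rw [Ideal.isCoprime_iff_sup_eq]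
    exact congr($(hcop i j hij).ideal U)

end Groth.Agent.PicCurve.ThetaPull

end
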