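import Groth.Agent.PicCurve.JacCoarse.Lambda
import Groth.Agent.Lib.AVProj
import Groth.Agent.FinDesc.BaseChange

/-!
# An effective line bundle defining an isomorphism to the dual is ample
-/

noncomputable section

set_option autoImplicit false
set_option linter.style.haveILetI false
set_option linter.unusedSectionVars false
set_option backward.isDefEq.respectTransparency false
set_option backward.isDefEq.respectTransparency.types false
set_option maxHeartbeats 1000000
set_option synthInstance.maxHeartbeats 400000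
attribute [-instance] CategoryTheory.catToReflQuiver

universe u

open CategoryTheory CategoryTheory.Limits AlgebraicGeometry TopologicalSpace
  MonoidalCategory CartesianMonoidalCategory MonObj
open Groth.Agent.H23.PicMul
open scoped CategoryTheory.Obj

namespace Groth.Agent.PicCurve.ThetaPull

open Groth.Agent.H23.CubeAb (F)
open Groth.Agent.H23.TrivBasic Groth.Agent.InvX Groth.Agent.AVAmple
open Groth.Agent.AVPair (pl pl_pl)

/-- only the origin fixes a bundle whose homomorphism to the dual is injective -/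
theorem subsingleton_fixing {K : Type u} [Field K] [IsAlgClosed K] {A At : Over (Spec (CommRingCat.of K))} [GrpObj A] [GrpObj At]
    [IsProper A.hom] [GeometricallyIntegral A.hom] {φ : AgPol.DualMap A At}
    (hφ : AbDual.IsDualAV Scheme.fppfPrecoverage A At φ) {L : A.left.Modules} (hL : PicF.IsInvertible L)
    {lam : A ⟶ At} [Mono lam] (h : AgPol.IsLambda A At φ L lam) :
    Set.Subsingleton {a : 𝟙_ (Over (Spec (CommRingCat.of K))) ⟶ A | pl (tr a) (PicF.cl L) = PicF.cl L} := by
  obtain ⟨M, hM, hML, hlam⟩ := h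
  have hz : AbDual.IsPicZeroCl A.hom A (PicF.cl M) := FinDesc.pz_lambdaSheaf hL hM hML
  let O : Over (Spec (CommRingCat.of K)) := 𝟙_ _
  let θ : PicF.Cl A.left := PicF.cl L
  let n : PicF.Cl (A ⊗ A).left := PicF.cl M
  have hθ : PicF.IsInvertibleCl θ := ⟨L, rfl, hL⟩
  have hθ' : pl (𝟙 A) θ = θ := PicClLib.pullCl_id θ
  have e0 : n * F θ (fst A A) * F θ (snd A A) = F θ μ[A] := (PicGrp.cl_eq_cl_iff _ _).2 hML
  suffices key : ∀ a : 𝟙_ (Over (Spec (CommRingCat.of K))) ⟶ A, pl (tr a) θ = θ → a ≫ lam = 1 by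
    intro a ha b hb
    rw [← cancel_mono lam, key a ha, key b hb]
  intro a ha
  let m : PicF.Cl (A ⊗ O).left := pl (A ◁ a) n
  have e1 := congrArg (pl (A ◁ a)) e0
  simp only [map_mul, H23.CubeAb.pull_F, whiskerLeft_fst, whiskerLeft_snd] at e1
  rw [show (A ◁ a) ≫ μ[A] = fst A O ≫ tr a by
    rw [comp_tr, show fst A O * (toUnit (A ⊗ O) ≫ a) = lift (fst A O) (toUnit (A ⊗ O) ≫ a) ≫ μ[A] from Hom.mul_def _ _,
      show lift (fst A O) (toUnit (A ⊗ O) ≫ a) = A ◁ a from CartesianMonoidalCategory.hom_ext _ _ (by simp [O])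
        (by simp [O, toUnit_unique (toUnit (A ⊗ O)) (snd A O)])]] at e1
  have hfix : F θ (fst A O ≫ tr a) = F θ (fst A O) := by
    show PicF.pullCl (fst A O ≫ tr a).left θ = PicF.pullCl (fst A O).left θ
    rw [Over.comp_left, ← PicClLib.pullCl_comp]
    exact congrArg _ ha
  rw [hfix] at e1
  have h1 : m * pl (snd A O) (F θ a) = 1 := by
    have hs : pl (snd A O) (F θ a) = F θ (snd A O ≫ a) := H23.CubeAb.pull_F _ _ _
    rw [hs]
    refine (H23.CubeAb.isUnit_F hθ (fst A O)).mul_eq_right.1 ?_
    calc m * F θ (snd A O ≫ a) * F θ (fst A O) = m * F θ (fst A O) * F θ (snd A O ≫ a) := by ac_rfl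
      _ = _ := e1
  have hmz : AbDual.IsPicZeroCl A.hom O m := by
    have h := AbDualBase.pz_xtMap a hz
    rw [PicZeroPrim.xtMap_eq] at h
    exact h
  have hr : PicF.IsInvertibleCl (F θ a) := FppfPic.isInvertibleCl_pull _ hθ
  have hbase : AbDual.IsPicZeroCl A.hom O (pl (snd A O) (F θ a)) := by
    have h := PicZeroPrim.pz_base_mul hr (AbDualBase.pz_one (A := A) O)
    rwa [_root_.mul_one] at h
  have h2 := AbDualBase.phi_mul hφ hmz hbase
  rw [h1, AbDualBase.phi_one hφ, show φ O (pl (snd A O) (F θ a)) = 1 from AbDualBase.phi_base hφ hr hbase,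
    _root_.mul_one] at h2
  have hnat := hφ.relPic.natural A O a (PicF.cl M) hz
  rw [PicZeroPrim.xtMap_eq, hlam] at hnat
  rw [← hnat]
  exact h2.symm

/-- An effective divisor class whose homomorphism to the dual is an isomorphism is ample. -/
theorem isAmple_of_isIso_lambda {k : Type u} [Field k] {A At : Over (Spec (CommRingCat.of k))} [GrpObj A] [GrpObj At]
    [IsProper A.hom] [GeometricallyIntegral A.hom] {φ : AgPol.DualMap A At}
    (hφ : AbDual.IsDualAV Scheme.fppfPrecoverage A At φ) {L : A.left.Modules} (hL : PicF.IsInvertible L)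
    {I : A.left.IdealSheafData} (hLI : ClSub.IsInverseOf L (ClSub.idealMod I))
    {lam : A ⟶ At} [IsIso lam] (h : AgPol.IsLambda A At φ L lam) : CohB1.IsAmple L := by
  haveI : IsIntegral A.left := GeometricallyIntegral.isIntegral_of_subsingleton A.hom
  have hI : BlowUp.IsEffCartierIdeal I := by
    obtain ⟨D, hD, ⟨w⟩⟩ := H23.PicInv.exists_inverse hL
    have hw : PicF.cl L * PicF.cl D = 1 := cl_eq_iff.2 ⟨w⟩
    have h0 : PicF.cl L * PicF.cl (ClSub.idealMod I) = 1 := (cl_eq_iff.2 hLI).trans one_def.symm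
    have : PicF.cl (ClSub.idealMod I) = PicF.cl D := by
      rw [← _root_.one_mul (PicF.cl (ClSub.idealMod _)), ← hw, mul_comm (PicF.cl L), _root_.mul_assoc, h0,
        _root_.mul_one]
    obtain ⟨w'⟩ := cl_eq_iff.1 this.symm
    exact (S8914.result _).1 (isInvertible_of_iso w' hD)
  obtain ⟨s, hs, -⟩ := exists_divisor_section_ne_zero I hI hL hLI
  obtain ⟨x, hx⟩ := (Opens.ne_bot_iff_nonempty _).1 (locus_ne_bot hL hs)
  let K := AlgebraicClosure k
  let ρ : Spec (CommRingCat.of K) ⟶ Spec (CommRingCat.of k) := Spec.map (CommRingCat.ofHom (algebraMap k K))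
  refine AVProj.isAmple_of_baseChange A.hom K L hL ?_
  let Y : Over (Spec (CommRingCat.of K)) := (Over.pullback ρ).obj A
  haveI : IsProper Y.hom := (H23.BcComp.isAV_bc ρ A).1
  haveI : GeometricallyIntegral Y.hom := (H23.BcComp.isAV_bc ρ A).2
  haveI : Surjective ρ := ⟨fun x => ⟨IsLocalRing.closedPoint K, Subsingleton.elim _ _⟩⟩
  haveI : IsIntegral Y.left := GeometricallyIntegral.isIntegral_of_subsingleton Y.hom
  let π : Y.left ⟶ A.left := pullback.fst A.hom ρ
  haveI : Surjective π := inferInstanceAs (Surjective (pullback.fst A.hom ρ))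
  obtain ⟨y, hy⟩ := π.surjective x
  have hy' : y ∈ locus (InvX.pullElt π s) := by
    rw [show locus (InvX.pullElt π s) = π ⁻¹ᵁ locus s from locus_pullElt hL π s]
    show π y ∈ locus s
    rw [hy]
    exact hx
  haveI : IsIso ((Over.pullback ρ).map lam) := inferInstance
  exact AVAmple.isAmple_of_finite_fixing (A := Y) (PicClLib.isInvertible_pullback π hL)
    (AVProj.ne_zero_of_mem_locus hy')
    (subsingleton_fixing (lam := (Over.pullback ρ).map lam) (FinDesc.isDualAV_bc hφ)
      (PicClLib.isInvertible_pullback π hL) (JacCoarse.isLambda_bc ρ hφ hL h)).finite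

end Groth.Agent.PicCurve.ThetaPull

end
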