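import Groth.Agent.PicCurve.ThetaPull.LambdaPull
import Groth.Agent.PicCurve.Torelli.Descend
import Groth.Agent.PicCurve.Torelli.Curve
import Groth.Agent.PicCurve.Torelli.ThetaSet
import Groth.Agent.PicCurve.Pts.SepClosed
import Groth.Agent.GrpSchLib.SmoothReduced
import Groth.Agent.S4667
import Groth.Agent.BlowUpLib.Local

/-!
# The pullback of the Mumford bundle of theta along the Abel map, over any field
-/

noncomputable section

set_option autoImplicit false
set_option linter.style.haveILetI false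
set_option linter.unusedSectionVars false
set_option backward.isDefEq.respectTransparency false
set_option backward.isDefEq.respectTransparency.types false
set_option maxHeartbeats 1000000
set_option synthInstance.maxHeartbeats 400000
attribute [-instance] CategoryTheory.catToReflQuiver

universe u

open CategoryTheory CategoryTheory.Limits AlgebraicGeometry TopologicalSpace
  MonoidalCategory CartesianMonoidalCategory
open scoped MonObj
open Groth.Agent.H23.PicMul

namespace Groth.Agent.PicCurve.ThetaPull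

open Alb Pts
open Groth.Agent.H23.CubeAb (F)
open RepDescent (below)
open scoped Groth.Agent.PicCurve.Torelli

section Sets

variable {k K : Type u} [Field k] [Field K] [IsAlgClosed K] {X : Scheme.{u}} (f : X ⟶ Spec (CommRingCat.of k))
  [IsProper f] (ρ : Spec (CommRingCat.of K) ⟶ Spec (CommRingCat.of k)) {A : Over (Spec (CommRingCat.of k))}
  [GrpObj A] [IsCommMonObj A] [LocallyOfFiniteType A.hom]

/-- the geometric points of the image of the sum map -/
theorem mem_range_sumMap_below (i : Over.mk f ⟶ A) (n : ℕ)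
    (z : below ρ (𝟙_ (Over (Spec (CommRingCat.of K)))) ⟶ A) :
    z.left.base (show Spec (CommRingCat.of K) from IsLocalRing.closedPoint K) ∈ Set.range (sumMap f i n).left.base ↔
      ∃ x : Fin n → (below ρ (𝟙_ (Over (Spec (CommRingCat.of K)))) ⟶ Over.mk f),
        z = (List.ofFn fun l => x l ≫ i).prod := by
  let T := below ρ (𝟙_ (Over (Spec (CommRingCat.of K))))
  let sm := sumMap f i n
  constructor
  · intro hz
    haveI : IsProper (WidePullback.base fun (_ : Fin n) => f) := Pts.isProper_base f n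
    haveI : LocallyOfFiniteType (sm.left ≫ A.hom) := by
      rw [Over.w sm]; exact inferInstanceAs (LocallyOfFiniteType (WidePullback.base fun (_ : Fin n) => f))
    haveI : LocallyOfFiniteType sm.left := locallyOfFiniteType_of_comp sm.left A.hom
    obtain ⟨q₀, hq₀⟩ := Ext.exists_lift_point sm.left z.left hz
    let q : T ⟶ Over.mk (WidePullback.base fun (_ : Fin n) => f) := Over.homMk q₀ (by
      show q₀ ≫ (WidePullback.base fun (_ : Fin n) => f) = T.hom
      rw [← Over.w z, ← hq₀, Category.assoc, Over.w sm]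
      rfl)
    refine ⟨fun l => q ≫ Over.homMk (WidePullback.π (fun (_ : Fin n) => f) l)
      (WidePullback.π_arrow (fun (_ : Fin n) => f) l), ?_⟩
    rw [show z = q ≫ sm from Over.OverMorphism.ext hq₀.symm, Pts.comp_prod]
    simp only [Category.assoc]
  · rintro ⟨x, rfl⟩
    let q : T ⟶ Over.mk (WidePullback.base fun (_ : Fin n) => f) :=
      Over.homMk (WidePullback.lift T.hom (fun l => (x l).left) (fun l => Over.w (x l))) (WidePullback.lift_base _ _ _ _)
    have hq : q ≫ sm = (List.ofFn fun l => x l ≫ i).prod := by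
      rw [Pts.comp_prod]
      congr 2
      funext l
      rw [← Category.assoc]
      exact congrArg (· ≫ i) (Over.OverMorphism.ext (WidePullback.lift_π _ _ _ _ _))
    exact ⟨q.left.base (show Spec (CommRingCat.of K) from IsLocalRing.closedPoint K), congr($(hq).left _)⟩

omit [IsProper f] in
/-- closed sets with the same rational points agree -/
theorem closed_eq_of_pts {Y : Over (Spec (CommRingCat.of K))} [LocallyOfFiniteType Y.hom] {S S' : Set Y.left}
    (hS : IsClosed S) (hS' : IsClosed S')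
    (h : ∀ u : 𝟙_ (Over (Spec (CommRingCat.of K))) ⟶ Y, pt u ∈ S ↔ pt u ∈ S') : S = S' := by
  haveI : JacobsonSpace Y.left := LocallyOfFiniteType.jacobsonSpace Y.hom
  have e : S ∩ closedPoints Y.left = S' ∩ closedPoints Y.left := by
    ext p
    constructor
    all_goals
      rintro ⟨hp, hc⟩
      obtain ⟨u, rfl⟩ := exists_pt (Y := Y) hc
    · exact ⟨(h u).1 hp, hc⟩
    · exact ⟨(h u).2 hp, hc⟩
  rw [← closure_inter_closedPoints hS, e, closure_inter_closedPoints hS']

end Sets

section Descend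

variable {k : Type u} [Field k] (C : Scheme.{u}) [C.Over (Spec (CommRingCat.of k))]
  [IsProper (C ↘ Spec (CommRingCat.of k))] [Smooth (C ↘ Spec (CommRingCat.of k))]
  [SmoothOfRelativeDimension 1 (C ↘ Spec (CommRingCat.of k))]
  [GeometricallyIntegral (C ↘ Spec (CommRingCat.of k))] [IsIntegral C]
  [GeometricallyConnected (C ↘ Spec (CommRingCat.of k))]
  (hdim : topologicalKrullDim C = 1) (σ : Spec (CommRingCat.of k) ⟶ C)
  (hσ : σ ≫ (C ↘ Spec (CommRingCat.of k)) = 𝟙 _)
  {J : Over (Spec (CommRingCat.of k))} [IsProper J.hom] [Smooth J.hom] [GeometricallyIntegral J.hom]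
  (ξ : PicF.Rig (C ↘ Spec (CommRingCat.of k)) σ hσ J) (hξ : FGA.HasFibreDegreeZeroCl (C ↘ Spec (CommRingCat.of k)) J ξ.1)
  (huniv : ∀ (T : Over (Spec (CommRingCat.of k))) (c : PicF.Rig (C ↘ Spec (CommRingCat.of k)) σ hσ T),
    FGA.HasFibreDegreeZeroCl (C ↘ Spec (CommRingCat.of k)) T c.1 →
    ∃! g : T ⟶ J, PicF.pullCl (PicF.XTmap (C ↘ Spec (CommRingCat.of k)) g) ξ.1 = c.1)

include hdim hξ huniv in
/-- over any field the pullback of the Mumford bundle of theta is inverse to the universal class -/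
theorem lambda_pull {g : ℕ} (hg : Curv2.genus k C = g) (hg1 : 1 ≤ g) (n0 : 𝟙_ (Over (Spec (CommRingCat.of k))) ⟶ J)
    {L : J.left.Modules} (hL : PicF.IsInvertible L)
    (hLI : letI := jacGrpObj (C ↘ Spec (CommRingCat.of k)) hdim σ hσ ξ hξ huniv
      haveI := jac_isCommMonObj (C ↘ Spec (CommRingCat.of k)) hdim σ hσ ξ hξ huniv
      ∀ S : Closeds J.left, (S : Set J.left) = (Jac.transl J n0).left.base ⁻¹' Set.range
          (sumMap (C ↘ Spec (CommRingCat.of k)) (aj (C ↘ Spec (CommRingCat.of k)) hdim σ hσ ξ hξ huniv) (g - 1)).left.base →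
        ClSub.IsInverseOf L (ClSub.idealMod (Scheme.IdealSheafData.vanishingIdeal S))) :
    letI := jacGrpObj (C ↘ Spec (CommRingCat.of k)) hdim σ hσ ξ hξ huniv
    let x := fst (Over.mk (C ↘ Spec (CommRingCat.of k))) J ≫ aj (C ↘ Spec (CommRingCat.of k)) hdim σ hσ ξ hξ huniv
    let q := snd (Over.mk (C ↘ Spec (CommRingCat.of k))) J
    F (PicF.cl L) (x * q) * (show PicF.Cl (Over.mk (C ↘ Spec (CommRingCat.of k)) ⊗ J).left from ξ.1) =
      F (PicF.cl L) x * F (PicF.cl L) q := by
  classical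
  let f := C ↘ Spec (CommRingCat.of k)
  letI := jacGrpObj f hdim σ hσ ξ hξ huniv
  haveI := jac_isCommMonObj f hdim σ hσ ξ hξ huniv
  intro x q
  let ξ' : PicF.Cl (Over.mk f ⊗ J).left := ξ.1
  let l := PicF.cl L
  show F l (x * q) * ξ' = _
  haveI : IrreducibleSpace J.left := GeometricallyIrreducible.irreducibleSpace_of_subsingleton J.hom
  let α := aj f hdim σ hσ ξ hξ huniv
  -- the algebraic closure
  let K := AlgebraicClosure k
  let ρ : Spec (CommRingCat.of K) ⟶ Spec (CommRingCat.of k) := Spec.map (CommRingCat.ofHom (algebraMap k K))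
  haveI := smoothOfRelativeDimension_isStableUnderBaseChange 1
  haveI : SmoothOfRelativeDimension 1 (fL f ρ) :=
    MorphismProperty.pullback_snd (P := @SmoothOfRelativeDimension 1) _ _ inferInstance
  haveI : IsIntegral (pullback f ρ) := GeometricallyIntegral.isIntegral_of_subsingleton (pullback.snd f ρ)
  have hdimK : topologicalKrullDim ↥(pullback f ρ) = 1 :=
    (FibDim.topologicalKrullDim_baseChange (IsPullback.of_hasPullback f ρ)).trans hdim
  letI : (pullback f ρ).Over (Spec (CommRingCat.of K)) := ⟨fL f ρ⟩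
  haveI : IsProper (pullback f ρ ↘ Spec (CommRingCat.of K)) := inferInstanceAs (IsProper (pullback.snd f ρ))
  haveI : Smooth (pullback f ρ ↘ Spec (CommRingCat.of K)) := inferInstanceAs (Smooth (pullback.snd f ρ))
  haveI : SmoothOfRelativeDimension 1 (pullback f ρ ↘ Spec (CommRingCat.of K)) :=
    inferInstanceAs (SmoothOfRelativeDimension 1 (fL f ρ))
  haveI : GeometricallyIntegral (pullback f ρ ↘ Spec (CommRingCat.of K)) :=
    inferInstanceAs (GeometricallyIntegral (pullback.snd f ρ))
  haveI : GeometricallyConnected (pullback f ρ ↘ Spec (CommRingCat.of K)) :=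
    inferInstanceAs (GeometricallyConnected (pullback.snd f ρ))
  haveI : CompactSpace C := QuasiCompact.compactSpace_of_compactSpace f
  haveI : QuasiSeparatedSpace C := quasiSeparatedSpace_of_quasiSeparated f
  have hgK : Curv2.genus K (pullback f ρ) = g :=
    (CurveBC.genus_eq k K (pullback.fst f ρ) (IsPullback.of_hasPullback f ρ)).trans hg
  let JK := Ext.up ρ J
  haveI : IsProper JK.hom := inferInstanceAs (IsProper (pullback.snd J.hom ρ))
  haveI : Smooth JK.hom := inferInstanceAs (Smooth (pullback.snd J.hom ρ))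
  haveI : GeometricallyIntegral JK.hom := inferInstanceAs (GeometricallyIntegral (pullback.snd J.hom ρ))
  haveI : IrreducibleSpace JK.left := GeometricallyIrreducible.irreducibleSpace_of_subsingleton JK.hom
  let fK := fL f ρ
  let σK := σL f ρ σ hσ
  let ξK := Ext.ξL f ρ J σ hσ ξ
  have hξK := Ext.deg0_ξL f ρ J σ hσ ξ hξ
  have huK := Ext.universal f ρ J σ hσ ξ huniv
  letI := jacGrpObj fK hdimK σK (hσL f ρ σ hσ) ξK hξK huK
  haveI : IsCommMonObj JK := jac_isCommMonObj fK hdimK σK (hσL f ρ σ hσ) ξK hξK huK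
  let jK := aj fK hdimK σK (hσL f ρ σ hσ) ξK hξK huK
  let P : Over (Spec (CommRingCat.of K)) := 𝟙_ _
  let T : Over (Spec (CommRingCat.of k)) := below ρ P
  let pr : JK.left ⟶ J.left := pullback.fst J.hom ρ
  -- the closed set and its inverse image
  let n := g - 1
  let sm := sumMap f α n
  have hcl : IsClosed (Set.range sm.left.base) := by
    haveI : IsProper (WidePullback.base fun (_ : Fin n) => f) := Pts.isProper_base f n
    haveI : IsProper (sm.left ≫ J.hom) := by
      rw [Over.w]; exact inferInstanceAs (IsProper (WidePullback.base fun (_ : Fin n) => f))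
    haveI : IsProper sm.left := IsProper.of_comp _ J.hom
    exact sm.left.isClosedMap.isClosed_range
  let S : Closeds J.left := ⟨(Jac.transl J n0).left.base ⁻¹' Set.range sm.left.base,
    hcl.preimage (Jac.transl J n0).left.continuous⟩
  let ν : (Over.mk (WidePullback.base fun (_ : Fin n) => f)).left ⟶ J.left :=
    (sm ≫ Jac.transl J n0⁻¹).left
  have hrange : Set.range ν = (S : Set J.left) := by
    show Set.range (sm.left ≫ (Jac.transl J n0⁻¹).left).base = _
    rw [Scheme.Hom.comp_base, TopCat.coe_comp, Set.range_comp]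
    ext p
    have hl : ∀ p, (Jac.transl J n0).left.base ((Jac.transl J n0⁻¹).left.base p) = p := fun p => by
      have := Ext.transl_inv_cancel (n0⁻¹ : 𝟙_ (Over (Spec (CommRingCat.of k))) ⟶ J)
      rw [inv_inv] at this
      exact congr($(this).left p)
    have hr : ∀ p, (Jac.transl J n0⁻¹).left.base ((Jac.transl J n0).left.base p) = p := fun p =>
      congr($(Ext.transl_inv_cancel n0).left p)
    exact ⟨fun ⟨y, hy, hyp⟩ => by rw [← hyp]; show _ ∈ Set.range _; rw [hl]; exact hy,
      fun hp => ⟨_, hp, hr p⟩⟩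
  haveI : Smooth (WidePullback.base fun (_ : Fin n) => f) := Pts.smooth_base f n
  haveI : IsProper (WidePullback.base fun (_ : Fin n) => f) := Pts.isProper_base f n
  haveI : IsReduced (Over.mk (WidePullback.base fun (_ : Fin n) => f)).left :=
    GrpSchLib.isReduced_of_smooth_field (WidePullback.base fun (_ : Fin n) => f)
  haveI : IsProper (ν ≫ J.hom) := by
    rw [Over.w]; exact inferInstanceAs (IsProper (WidePullback.base fun (_ : Fin n) => f))
  haveI : IsProper ν := IsProper.of_comp ν J.hom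
  have hker : ν.ker = Scheme.IdealSheafData.vanishingIdeal S :=
    ker_eq_vanishingIdeal ν S (by rw [hrange]; exact S.isClosed.closure_eq)
  let SK : Closeds JK.left := ⟨pr ⁻¹' (S : Set J.left), S.isClosed.preimage pr.continuous⟩
  haveI : IsReduced (pullback ν pr) := by
    have h1 : IsPullback (pullback.fst ν pr) (pullback.snd ν pr ≫ pullback.snd J.hom ρ) (ν ≫ J.hom) ρ :=
      (IsPullback.of_hasPullback ν pr).paste_vert (IsPullback.of_hasPullback J.hom ρ)
    haveI : Smooth (ν ≫ J.hom) := by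
      rw [Over.w]; exact inferInstanceAs (Smooth (WidePullback.base fun (_ : Fin n) => f))
    haveI : Smooth (pullback.snd ν pr ≫ pullback.snd J.hom ρ) := MorphismProperty.of_isPullback h1 inferInstance
    exact GrpSchLib.isReduced_of_smooth_field (pullback.snd ν pr ≫ pullback.snd J.hom ρ)
  have hcomap : (Scheme.IdealSheafData.vanishingIdeal S).comap pr = Scheme.IdealSheafData.vanishingIdeal SK := by
    rw [← hker, ← Groth.Agent.S4667.result ν pr]
    refine ker_eq_vanishingIdeal _ SK ?_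
    have : Set.range (pullback.snd ν pr) = (SK : Set JK.left) := by
      rw [Scheme.Pullback.range_snd]
      rw [hrange]
      rfl
    rw [this]
    exact SK.isClosed.closure_eq
  -- the rational points of the inverse image
  have hW : ∀ u : P ⟶ JK, u ∈ Pts.WJ fK jK n ↔
      ∃ x : Fin n → (T ⟶ Over.mk f), Ext.low ρ J u = (List.ofFn fun i => x i ≫ α).prod := by
    let io : (P ⟶ JK) →* (T ⟶ J) := MonoidHom.mk' (fun u => Ext.low ρ J u)
      (fun a b => Ext.low_mul f ρ J hdim hdimK σ hσ ξ hξ huniv a b)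
    have hp : ∀ (x : Fin n → (P ⟶ Over.mk fK)), Ext.low ρ J (List.ofFn fun i => x i ≫ jK).prod =
        (List.ofFn fun i => Ext.lowX f ρ (x i) ≫ α).prod := fun x => by
      show io _ = _
      rw [map_list_prod, List.map_ofFn]
      congr 2
      funext i
      exact Ext.low_aj f ρ J hdim hdimK σ hσ ξ hξ huniv (x i)
    intro u
    constructor
    · rintro ⟨x, rfl⟩
      exact ⟨_, hp x⟩
    · rintro ⟨x, hx'⟩
      choose x' hx'' using fun i => Ext.lowX_surjective f ρ (x i)
      refine ⟨x', Ext.low_injective ρ J ?_⟩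
      rw [hx', hp x']
      simp only [hx'']
  obtain ⟨nK, hnK⟩ := Ext.low_surjective ρ J (toUnit T ≫ n0)
  have hSK : ∀ u : P ⟶ JK, pt u ∈ (SK : Set JK.left) ↔ u * nK ∈ Pts.WJ fK jK n := by
    intro u
    rw [hW, Ext.low_mul f ρ J hdim hdimK σ hσ ξ hξ huniv, hnK, ← Ext.comp_transl', ← mem_range_sumMap_below f ρ α n]
    rfl
  obtain ⟨ψK, hJK, hjK⟩ := Alb.exists_isJacobian fK hdimK σK (hσL f ρ σ hσ) ξK hξK huK
  obtain ⟨κ, hκ⟩ : ∃ κ : P ⟶ JK, ∀ u ∈ Pts.WJ fK jK n, κ * u⁻¹ ∈ Pts.WJ fK jK n := by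
    rcases Nat.lt_or_ge g 2 with h2 | h2
    · refine ⟨1, fun u hu => ?_⟩
      obtain ⟨x, rfl⟩ := hu
      have hn : n = 0 := show g - 1 = 0 by omega
      refine ⟨x, ?_⟩
      revert x
      rw [hn]
      intro x
      simp
    · obtain ⟨κ, SYS, -⟩ := Torelli.exists_sys (pullback f ρ) hdimK σK (hσL f ρ σ hσ) hJK hjK hgK h2
      exact ⟨κ, SYS.invol⟩
  let a₀ : P ⟶ JK := κ * nK⁻¹
  have hset : (SK : Set JK.left) = closure (thetaMinus (pullback f ρ) (j := jK) n a₀) := by
    rw [(isClosed_thetaMinus (pullback f ρ) n a₀).closure_eq]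
    refine closed_eq_of_pts SK.isClosed (isClosed_thetaMinus (pullback f ρ) n a₀) fun u => ?_
    rw [hSK, pt_mem_thetaMinus]
    show _ ↔ κ * nK⁻¹ * u⁻¹ ∈ _
    constructor
    · intro h
      have := hκ _ h
      rwa [mul_inv, mul_comm u⁻¹, ← _root_.mul_assoc] at this
    · intro h
      have := hκ _ h
      rwa [mul_inv, mul_inv, inv_inv, inv_inv, ← _root_.mul_assoc, mul_inv_cancel_left, mul_comm nK] at this
  -- the pulled back module
  have h0 : PicF.cl L * PicF.cl (ClSub.idealMod (Scheme.IdealSheafData.vanishingIdeal S)) = 1 :=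
    (cl_eq_iff.2 (hLI S rfl)).trans one_def.symm
  have hI : BlowUp.IsEffCartierIdeal (Scheme.IdealSheafData.vanishingIdeal S) := by
    obtain ⟨D, hD, ⟨u⟩⟩ := H23.PicInv.exists_inverse hL
    have hu : PicF.cl L * PicF.cl D = 1 := cl_eq_iff.2 ⟨u⟩
    have : PicF.cl (ClSub.idealMod (Scheme.IdealSheafData.vanishingIdeal S)) = PicF.cl D := by
      rw [← _root_.one_mul (PicF.cl (ClSub.idealMod _)), ← hu, mul_comm (PicF.cl L), _root_.mul_assoc, h0,
        _root_.mul_one]
    obtain ⟨φ⟩ := cl_eq_iff.1 this.symm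
    exact (S8914.result _).1 (isInvertible_of_iso φ hD)
  haveI : Flat pr := inferInstance
  have h1 := pullCl_mul_ideal pr hL h0 (BlowUpLib.isEffCartier_comap_flat pr hI)
  rw [hcomap] at h1
  let LK := (Scheme.Modules.pullback pr).obj L
  have hLK : ClSub.IsInverseOf LK (ClSub.idealMod (Scheme.IdealSheafData.vanishingIdeal
      ⟨closure (thetaMinus (pullback f ρ) (j := jK) n a₀), isClosed_closure⟩)) := by
    have e : SK = ⟨closure (thetaMinus (pullback f ρ) (j := jK) n a₀), isClosed_closure⟩ := SetLike.coe_injective hset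
    rw [← e]
    exact cl_eq_iff.1 (h1.trans one_def)
  have h2 := lambda_pull_closed (pullback f ρ) hdimK σK (hσL f ρ σ hσ) ξK hξK huK hgK hg1 a₀
    (PicClLib.isInvertible_pullback pr hL) hLK
  -- the comparison
  let Tw := Over.mk fK ⊗ JK
  let xK := fst (Over.mk fK) JK ≫ jK
  let qK := snd (Over.mk fK) JK
  let Ψ : below ρ Tw ⟶ Over.mk f ⊗ J := lift (Ext.lowX f ρ (fst (Over.mk fK) JK)) (Ext.low ρ J qK)
  have hF : ∀ w : Tw ⟶ JK, F (PicF.cl LK) w = F l (Ext.low ρ J w) := fun w =>
    PicClLib.pullCl_comp w.left pr l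
  have hFΨ : ∀ u : Over.mk f ⊗ J ⟶ J, PicF.pullCl Ψ.left (F l u) = F l (Ψ ≫ u) := fun u =>
    PicClLib.pullCl_comp Ψ.left u.left l
  have ex : Ψ ≫ x = Ext.low ρ J xK := by
    show Ψ ≫ fst (Over.mk f) J ≫ α = _
    rw [← Category.assoc, lift_fst]
    exact (Ext.low_aj f ρ J hdim hdimK σ hσ ξ hξ huniv (fst (Over.mk fK) JK)).symm
  have eq' : Ψ ≫ q = Ext.low ρ J qK := lift_snd _ _
  have eξ : PicF.pullCl Ψ.left ξ' = ξK.1 := by
    show _ = PicF.pullCl (cmp f ρ JK).hom (PicF.pullCl (PicF.XTmap f (Ext.upPr ρ J)) ξ.1)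
    rw [PicClLib.pullCl_comp]
    refine congrArg (PicF.pullCl · ξ.1) (pullback.hom_ext ?_ ?_)
    · show Ψ.left ≫ (fst (Over.mk f) J).left = _
      rw [← Over.comp_left, lift_fst]
      rw [Category.assoc]
      show (fst (Over.mk fK) JK).left ≫ pullback.fst f ρ = (cmp f ρ JK).hom ≫ _
      rw [show (fst (Over.mk fK) JK).left = pullback.fst fK JK.hom from rfl]
      exact ((cmp_fst f ρ JK).symm.trans (congrArg ((cmp f ρ JK).hom ≫ ·)
        (show pullback.fst f (below ρ JK).hom = PicF.XTmap f (Ext.upPr ρ J) ≫ pullback.fst f J.hom by simp [PicF.XTmap]; rfl)))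
    · show Ψ.left ≫ (snd (Over.mk f) J).left = _
      rw [← Over.comp_left, lift_snd, Category.assoc]
      show (snd (Over.mk fK) JK).left ≫ pullback.fst J.hom ρ = (cmp f ρ JK).hom ≫ _
      refine ((congrArg (· ≫ pullback.fst J.hom ρ) (cmp_proj f ρ JK)).symm.trans (Category.assoc _ _ _)).trans
        (congrArg ((cmp f ρ JK).hom ≫ ·) ?_)
      exact (show PicF.XTmap f (Ext.upPr ρ J) ≫ pullback.snd f J.hom = _ from pullback.lift_snd _ _ _).symm
  let d₁ := F l (x * q) * ξ'
  let d₂ := F l x * F l q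
  have h3 : PicF.pullCl Ψ.left d₁ = PicF.pullCl Ψ.left d₂ := by
    show PicF.pullCl Ψ.left (F l (x * q) * ξ') = PicF.pullCl Ψ.left (F l x * F l q)
    rw [pullCl_mul, pullCl_mul, hFΨ, hFΨ, hFΨ, MonObj.comp_mul, ex, eq',
      ← Ext.low_mul f ρ J hdim hdimK σ hσ ξ hξ huniv, ← hF, ← hF, ← hF, eξ]
    exact h2
  -- descent
  let V := Over.mk f ⊗ J
  haveI : IsProper V.hom := inferInstanceAs (IsProper (pullback.fst f J.hom ≫ f))
  haveI : Smooth V.hom := inferInstanceAs (Smooth (pullback.fst f J.hom ≫ f))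
  haveI : IrreducibleSpace V.left := inferInstanceAs (IrreducibleSpace ↥(pullback f J.hom))
  let sV : 𝟙_ (Over (Spec (CommRingCat.of k))) ⟶ V := lift (Over.homMk σ hσ) η[J]
  haveI : GeometricallyIntegral V.hom := Groth.Agent.S7791.result V.hom sV.left (Over.w sV)
  let VK := Ext.up ρ V
  obtain ⟨xw, hxw⟩ := Ext.lowX_surjective f ρ (Ext.upPr ρ V ≫ fst (Over.mk f) J)
  obtain ⟨qw, hqw⟩ := Ext.low_surjective ρ J (Ext.upPr ρ V ≫ snd (Over.mk f) J)
  let θ : VK ⟶ Tw := lift xw qw
  have hθ : bmap ρ θ ≫ Ψ = Ext.upPr ρ V := by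
    refine CartesianMonoidalCategory.hom_ext _ _ ?_ ?_
    · rw [Category.assoc, lift_fst, ← hxw]
      refine Over.OverMorphism.ext ?_
      show θ.left ≫ (fst (Over.mk fK) JK).left ≫ pullback.fst f ρ = xw.left ≫ pullback.fst f ρ
      rw [← Category.assoc, ← Over.comp_left, lift_fst]
    · rw [Category.assoc, lift_snd, ← Ext.low_comp, lift_snd, hqw]
  have hl : PicF.IsInvertibleCl l := ⟨L, rfl, hL⟩
  have hu : ∀ u : V ⟶ J, PicF.IsInvertibleCl (F l u) := fun u => FppfPic.isInvertibleCl_pull _ hl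
  have hd₂ : PicF.IsInvertibleCl d₂ := H23.PicMul.isInvertibleCl_mul (hu x) (hu q)
  have hd₁ : PicF.IsInvertibleCl d₁ := H23.PicMul.isInvertibleCl_mul (hu (x * q)) ξ.2.1
  obtain ⟨D, hD, hDi⟩ := H23.PicMul.isInvertibleCl_mul hd₁ (isInvertibleCl_invCl hd₂)
  have h4 : PicF.pullCl (Ext.upPr ρ V).left (PicF.cl D) = 1 := by
    rw [hD, ← hθ]
    show PicF.pullCl (θ.left ≫ Ψ.left) _ = 1
    rw [← PicClLib.pullCl_comp, pullCl_mul Ψ.left, h3, ← pullCl_mul Ψ.left, mul_invCl, pullCl_one, pullCl_one]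
  obtain ⟨iso⟩ := S8124.result k V.left V.hom D hDi K (cl_eq_iff.1 (h4.trans H23.PicMul.one_def))
  have h5 : d₁ * invCl hd₂ = 1 := by rw [← hD, H23.PicMul.one_def]; exact cl_eq_iff.2 ⟨iso⟩
  show d₁ = d₂
  calc d₁ = d₁ * (d₂ * invCl hd₂) := by rw [mul_invCl, _root_.mul_one]
    _ = d₁ * invCl hd₂ * d₂ := by ac_rfl
    _ = d₂ := by rw [h5, _root_.one_mul]

end Descend

end Groth.Agent.PicCurve.ThetaPull

end
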