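import Groth.Agent.PicCurve.ThetaPull.LambdaIso
import Groth.Agent.PicCurve.JacCoarse.Theta
import Groth.Agent.PicCurve.JacCoarse.Lambda
import Groth.Agent.SmoothSecLib.Basic
import Groth.Agent.CurveBC.Coh
import Groth.Agent.Deform.WeilGeomInt.Smooth
import Groth.Agent.Lib.AVProj
import Groth.Agent.FinDesc.BaseChange
import Groth.Agent.SchTorsor.Props
import Groth.Agent.S0086

/-!
# The homomorphism attached to theta is an isomorphism over any field
-/

noncomputable section

set_option autoImplicit false
set_option linter.style.haveILetI false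
set_option linter.unusedSectionVars false
set_option backward.isDefEq.respectTransparency false
set_option backward.isDefEq.respectTransparency.types false
set_option maxHeartbeats 1000000
set_option synthInstance.maxHeartbeats 400000
attribute [-instance] CategoryTheory.catToReflQuiver

universe u

open CategoryTheory CategoryTheory.Limits AlgebraicGeometry TopologicalSpace
  MonoidalCategory CartesianMonoidalCategory MonObj
open Groth.Agent.H23.PicMul
open scoped CategoryTheory.Obj

namespace Groth.Agent.PicCurve.ThetaPull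

/-- a finite separable extension gives a finite étale cover of the point -/
theorem etale_cover {k L : Type u} [Field k] [Field L] [Algebra k L] [Module.Finite k L] [Algebra.IsSeparable k L] :
    IsFinite (Spec.map (CommRingCat.ofHom (algebraMap k L))) ∧
      Etale (Spec.map (CommRingCat.ofHom (algebraMap k L))) ∧
        Surjective (Spec.map (CommRingCat.ofHom (algebraMap k L))) := by
  haveI : Algebra.FormallyEtale k L := Algebra.FormallyEtale.of_isSeparable k L
  haveI : Algebra.FinitePresentation k L := Algebra.FinitePresentation.of_finiteType.1 inferInstance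
  haveI : Algebra.Etale k L := ⟨inferInstance, inferInstance⟩
  refine ⟨(IsFinite.SpecMap_iff (CommRingCat.ofHom (algebraMap k L))).2 (RingHom.finite_algebraMap.2 inferInstance),
    ?_, ⟨fun _ => ⟨IsLocalRing.closedPoint L, @Subsingleton.elim _ (inferInstanceAs (Subsingleton (PrimeSpectrum k))) _ _⟩⟩⟩
  rw [HasRingHomProperty.Spec_iff (P := @Etale)]
  exact RingHom.etale_algebraMap.2 inferInstance

variable {k : Type u} [Field k] (X : Scheme.{u}) [X.Over (Spec (CommRingCat.of k))]
  [IsProper (X ↘ Spec (CommRingCat.of k))] [Smooth (X ↘ Spec (CommRingCat.of k))]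
  [GeometricallyConnected (X ↘ Spec (CommRingCat.of k))]
  (hdim : topologicalKrullDim X = 1)
  {J : Over (Spec (CommRingCat.of k))} [GrpObj J] [IsCommMonObj J]
  {ψ : (ModFun.PicDeg (X ↘ Spec (CommRingCat.of k)) 0).Hom ⊤ J}
  (hJ : Jac.IsJacobian (X ↘ Spec (CommRingCat.of k)) ⊤ J ψ)

include hdim hJ in
/-- the Jacobian is an abelian variety, and the homomorphism attached to theta is an isomorphism -/
theorem isIso_lambda_field {g : ℕ} (hg : Curv2.genus k X = g) (hg1 : 1 ≤ g)
    {N : X.Modules} (hN : PicF.IsInvertible N) (hNdeg : Curv2.deg k X N 1 = (g : ℤ) - 1)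
    {Θ : J.left.Modules} (hΘ : Jac.IsThetaLB (X ↘ Spec (CommRingCat.of k)) 0 ψ N Θ)
    {Jt : Over (Spec (CommRingCat.of k))} [GrpObj Jt] {φ : AgPol.DualMap J Jt}
    (hJt : AbDual.IsDualAV Scheme.fppfPrecoverage J Jt φ)
    {lam : J ⟶ Jt} (hlam : AgPol.IsLambda J Jt φ Θ lam) :
    IsProper J.hom ∧ GeometricallyIntegral J.hom ∧ IsIso lam := by
  let f := X ↘ Spec (CommRingCat.of k)
  haveI : IsProper f := ‹_›
  haveI : Smooth f := ‹_›
  haveI : GeometricallyConnected f := ‹_›
  haveI : GeometricallyIntegral f := Deform.WeilGeomInt.geometricallyIntegral_of_smooth f fun s =>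
    GeometricallyConnected.geometrically_connectedSpace (f := f) _ _ _ (IsPullback.of_hasPullback f (Red.geomPt s))
  haveI : IsIntegral X := GeometricallyIntegral.isIntegral_of_subsingleton f
  haveI : SmoothOfRelativeDimension 1 f := Groth.Agent.HilbCurve.smoothOfRelativeDimension_one f hdim
  obtain ⟨x₀⟩ : Nonempty X := inferInstance
  obtain ⟨L, _, _, _, _, t, ht, -⟩ := SmoothSecLib.exists_separable_point f ⊤ (x := x₀) trivial
  obtain ⟨hfin, het, hsurj⟩ := etale_cover (k := k) (L := L)
  let ρ := Spec.map (CommRingCat.ofHom (algebraMap k L))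
  haveI : IsFinite ρ := hfin
  haveI : Etale ρ := het
  haveI : Surjective ρ := hsurj
  let σ' : Spec (CommRingCat.of L) ⟶ pullback f ρ := pullback.lift t (𝟙 _) (by rw [ht, Category.id_comp])
  have hσ' : σ' ≫ fL f ρ = 𝟙 _ := pullback.lift_snd _ _ _
  letI : (pullback f ρ).Over (Spec (CommRingCat.of L)) := ⟨fL f ρ⟩
  haveI : IsProper (fL f ρ) := inferInstance
  haveI : Smooth (fL f ρ) := inferInstance
  haveI : GeometricallyConnected (fL f ρ) := inferInstance
  haveI : GeometricallyIntegral (fL f ρ) := inferInstance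
  haveI : IsProper (pullback f ρ ↘ Spec (CommRingCat.of L)) := ‹IsProper (fL f ρ)›
  haveI : Smooth (pullback f ρ ↘ Spec (CommRingCat.of L)) := ‹Smooth (fL f ρ)›
  haveI : GeometricallyConnected (pullback f ρ ↘ Spec (CommRingCat.of L)) := ‹GeometricallyConnected (fL f ρ)›
  haveI : IsIntegral (pullback f ρ) := GeometricallyIntegral.isIntegral_of_subsingleton (fL f ρ)
  have hdimL : topologicalKrullDim ↥(pullback f ρ) = 1 := dim_XT f hdim ρ
  haveI : SmoothOfRelativeDimension 1 (fL f ρ) := Groth.Agent.HilbCurve.smoothOfRelativeDimension_one _ hdimL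
  obtain ⟨V, ξ, hVp, hVs, hVi, hξ, huniv⟩ := Groth.Agent.PicCurve.exists_jacobian_field (fL f ρ) hdimL σ' hσ'
  haveI := hVp; haveI := hVs; haveI := hVi
  haveI : IrreducibleSpace V.left := GeometricallyIrreducible.irreducibleSpace_of_subsingleton V.hom
  letI := PicCurve.jacGrpObj (fL f ρ) hdimL σ' hσ' ξ hξ huniv
  haveI : GeometricallyIntegral V.hom := Groth.Agent.S7791.result V.hom η[V].left (Over.w η[V])
  obtain ⟨M, hM⟩ := AVProj.exists_isAmple (X := V)
  -- the Jacobian over the extension
  let JL := (Over.pullback ρ).obj J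
  let ψL := JacCoarse.bcHom f ρ hdim hdimL ψ
  have hJL : Jac.IsJacobian (fL f ρ) ⊤ JL ψL :=
    JacCoarse.isJacobian_bc f ρ hdim hdimL ψ σ' hσ' ξ hξ huniv hM hJ
  obtain ⟨E, hok, κ, -, -⟩ := JacCoarse.exists_iso f ρ hdim hdimL σ' hσ' ξ hξ huniv hM ψ hJ.coarse.2.1
  have hκ : κ.inv.left ≫ V.hom = JL.hom := Over.w κ.inv
  haveI : IsIso κ.inv.left := inferInstanceAs (IsIso ((Over.forget _).map κ.inv))
  haveI hpL : IsProper JL.hom := by rw [← hκ]; infer_instance
  haveI hsL : Smooth JL.hom := by rw [← hκ]; infer_instance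
  haveI hiL : GeometricallyIntegral JL.hom := by
    rw [← hκ]
    exact (MorphismProperty.cancel_left_of_respectsIso @GeometricallyIntegral _ _).2 inferInstance
  have hQ : (@Surjective ⊓ @Flat ⊓ @QuasiCompact : MorphismProperty Scheme.{u}) ρ :=
    ⟨⟨inferInstance, inferInstance⟩, inferInstance⟩
  have hsqJ : IsPullback (pullback.snd J.hom ρ) (pullback.fst J.hom ρ) ρ J.hom :=
    (IsPullback.of_hasPullback J.hom ρ).flip
  haveI : MorphismProperty.DescendsAlong @IsProper (@Surjective ⊓ @Flat ⊓ @QuasiCompact : MorphismProperty Scheme.{u}) :=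
    Groth.Agent.S0086.result
  haveI : IsProper J.hom := MorphismProperty.of_isPullback_of_descendsAlong (P := @IsProper) hsqJ hQ hpL
  haveI : MorphismProperty.DescendsAlong @Smooth.{u} (@Surjective ⊓ @Flat ⊓ @QuasiCompact : MorphismProperty Scheme.{u}) :=
    SchTorsor.smooth_descendsAlong
  haveI : Smooth J.hom := MorphismProperty.of_isPullback_of_descendsAlong (P := @Smooth) hsqJ hQ hsL
  haveI : GeometricallyReduced J.hom := H23.RigidGamma.geometricallyReduced_of_smooth J.hom
  haveI : IsIntegral JL.left := GeometricallyIntegral.isIntegral_of_subsingleton JL.hom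
  haveI : ConnectedSpace J.left :=
    haveI : ConnectedSpace ↥(pullback J.hom ρ) := inferInstanceAs (ConnectedSpace JL.left)
    (pullback.fst J.hom ρ).surjective.connectedSpace (pullback.fst J.hom ρ).continuous
  haveI : GeometricallyIntegral J.hom := H23.MaxAbelian.geometricallyIntegral_of_connected J
  refine ⟨inferInstance, inferInstance, ?_⟩
  haveI : IsCommMonObj JL := isCommMonObj_of_isProper_of_geometricallyIntegral JL
  let NL : (pullback f ρ).Modules := (Scheme.Modules.pullback (pullback.fst f ρ)).obj N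
  have hpb : IsPullback (pullback.fst f ρ) (pullback f ρ ↘ Spec (CommRingCat.of L)) (X ↘ Spec (CommRingCat.of k))
      (Spec.map (CommRingCat.ofHom (algebraMap k L))) := IsPullback.of_hasPullback f ρ
  haveI : CompactSpace X := QuasiCompact.compactSpace_of_compactSpace f
  haveI : QuasiSeparatedSpace X := quasiSeparatedSpace_of_quasiSeparated f
  have hiso : IsIso ((Over.pullback ρ).map lam) :=
    isIso_lambda (pullback f ρ) hdimL σ' hσ' hJL (g := g) ((CurveBC.genus_eq k L _ hpb).trans hg) hg1
      (N := NL) (PicClLib.isInvertible_pullback _ hN)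
      ((CurveBC.deg_eq k L _ hpb N (isQCoh_inv hN) 1).trans hNdeg)
      (JacCoarse.isThetaLB_bc f ρ hdim hdimL ψ hN hΘ)
      (FinDesc.isDualAV_bc hJt) (JacCoarse.isLambda_bc ρ hJt hΘ.1 hlam)
  -- descent
  have hw : lam.left ≫ Jt.hom = J.hom := Over.w lam
  have hfl : ((Over.pullback ρ).map lam).left ≫ pullback.fst Jt.hom ρ = pullback.fst J.hom ρ ≫ lam.left := by
    simp [Over.pullback]
  have hsl : ((Over.pullback ρ).map lam).left ≫ pullback.snd Jt.hom ρ = pullback.snd J.hom ρ :=
    Over.w ((Over.pullback ρ).map lam)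
  have hsq : IsPullback ((Over.pullback ρ).map lam).left (pullback.fst J.hom ρ) (pullback.fst Jt.hom ρ) lam.left :=
    IsPullback.of_right (by rw [hsl, hw]; exact hsqJ) hfl (IsPullback.of_hasPullback Jt.hom ρ).flip
  have hleft : IsIso ((Over.pullback ρ).map lam).left := inferInstanceAs (IsIso ((Over.forget _).map ((Over.pullback ρ).map lam)))
  haveI : IsIso lam.left := MorphismProperty.of_isPullback_of_descendsAlong
    (P := MorphismProperty.isomorphisms Scheme) (Q := @Surjective ⊓ @Flat ⊓ @QuasiCompact) hsq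
    ⟨⟨inferInstance, inferInstance⟩, inferInstance⟩ hleft
  haveI : IsIso ((Over.forget (Spec (CommRingCat.of k))).map lam) := ‹IsIso lam.left›
  exact isIso_of_reflects_iso lam (Over.forget _)

end Groth.Agent.PicCurve.ThetaPull

end
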