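import Groth.Agent.PicCurve.ThetaPull.LambdaTheta
import Groth.Agent.FinDesc.Polarization
import Groth.Agent.PicRelC.Zero

/-!
# The homomorphism attached to theta is an isomorphism
-/

noncomputable section

set_option autoImplicit false
set_option linter.style.haveILetI false
set_option linter.unusedSectionVars false
set_option backward.isDefEq.respectTransparency false
set_option backward.isDefEq.respectTransparency.types false
set_option maxHeartbeats 1000000
set_option synthInstance.maxHeartbeats 400000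
attribute [-instance] CategoryTheory.catToReflQuiver

universe u

open CategoryTheory CategoryTheory.Limits AlgebraicGeometry TopologicalSpace
  MonoidalCategory CartesianMonoidalCategory MonObj
open Groth.Agent.H23.PicMul
open scoped CategoryTheory.Obj

namespace Groth.Agent.PicCurve.ThetaPull

open Alb Pts
open Groth.Agent.H23.CubeAb (F)
open Groth.Agent.AVPair (pl pl_pl)

variable {k : Type u} [Field k] (C : Scheme.{u}) [C.Over (Spec (CommRingCat.of k))]
  [IsProper (C ↘ Spec (CommRingCat.of k))] [Smooth (C ↘ Spec (CommRingCat.of k))]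
  [GeometricallyConnected (C ↘ Spec (CommRingCat.of k))]
  (hdim : topologicalKrullDim C = 1) (σ : Spec (CommRingCat.of k) ⟶ C)
  (hσ : σ ≫ (C ↘ Spec (CommRingCat.of k)) = 𝟙 _)
  {J : Over (Spec (CommRingCat.of k))} [GrpObj J] [IsCommMonObj J]
  {ψ : (ModFun.PicDeg (C ↘ Spec (CommRingCat.of k)) 0).Hom ⊤ J}
  (hJ : Jac.IsJacobian (C ↘ Spec (CommRingCat.of k)) ⊤ J ψ)

include hdim hσ hJ in
/-- a coarse Jacobian of a curve with a rational point carries a universal family classified by the identity, and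
families of degree zero normalised at the point come from exactly one point -/
theorem exists_univ_data :
    ∃ (Pu : (PicF.XT (C ↘ Spec (CommRingCat.of k)) J).Modules)
      (hPu : ModFun.IsUnivFamily ⊤ (ModFun.PicDeg (C ↘ Spec (CommRingCat.of k)) 0) J Pu)
      (j : Over.mk (C ↘ Spec (CommRingCat.of k)) ⟶ J),
      PicF.IsInvertible Pu ∧
      (∀ (T : Over (Spec (CommRingCat.of k))) (a b : T ⟶ J),
        PicF.pullCl (PicF.XTmap (C ↘ Spec (CommRingCat.of k)) a) (PicF.cl Pu) =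
          PicF.pullCl (PicF.XTmap (C ↘ Spec (CommRingCat.of k)) b) (PicF.cl Pu) → a = b) ∧
      Jac.IsNormAlong (C ↘ Spec (CommRingCat.of k)) σ hσ J Pu ∧ ψ.app J Pu trivial hPu.1 = 𝟙 J ∧
      Jac.IsAbelJacobiAt (C ↘ Spec (CommRingCat.of k)) σ ψ j ∧
      (Over.homMk σ hσ : 𝟙_ (Over (Spec (CommRingCat.of k))) ⟶ Over.mk (C ↘ Spec (CommRingCat.of k))) ≫ j = η[J] ∧
      ∀ (T : Over (Spec (CommRingCat.of k))) (c : PicF.Cl (PicF.XT (C ↘ Spec (CommRingCat.of k)) T)),
        AbDual.IsPicZeroCl (C ↘ Spec (CommRingCat.of k)) T c →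
        PicF.pullCl (PicF.secT (C ↘ Spec (CommRingCat.of k)) σ hσ T) c = 1 →
        ∃! a : T ⟶ J, PicF.pullCl (PicF.XTmap (C ↘ Spec (CommRingCat.of k)) a) (PicF.cl Pu) = c := by
  let f := C ↘ Spec (CommRingCat.of k)
  haveI : IsProper f := ‹_›
  haveI : Smooth f := ‹_›
  haveI : ConnectedSpace C := connectedSpace_of_geomConn f
  haveI : GeometricallyIntegral f := Groth.Agent.S7791.result f σ hσ
  haveI : IsIntegral C := GeometricallyIntegral.isIntegral_of_subsingleton f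
  haveI : SmoothOfRelativeDimension 1 f := Groth.Agent.HilbCurve.smoothOfRelativeDimension_one f hdim
  have hfib : ∀ s : Spec (CommRingCat.of k), topologicalKrullDim ↥(f.fiber s) = 1 := fun s => by
    rw [(f.fiberHomeo s).isHomeomorph.topologicalKrullDim_eq]
    have he : f ⁻¹' {s} = Set.univ := Set.eq_univ_of_forall fun x =>
      @Subsingleton.elim _ (inferInstanceAs (Subsingleton (PrimeSpectrum k))) (f x) s
    rw [he, (Homeomorph.Set.univ _).isHomeomorph.topologicalKrullDim_eq]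
    exact hdim
  obtain ⟨J₀, ξ, hp, hsm, hi, hξ, huniv⟩ := Groth.Agent.PicCurve.exists_jacobian_field f hdim σ hσ
  haveI := hp; haveI := hsm; haveI := hi
  haveI : IrreducibleSpace J₀.left := GeometricallyIrreducible.irreducibleSpace_of_subsingleton J₀.hom
  letI := PicCurve.jacGrpObj f hdim σ hσ ξ hξ huniv
  obtain ⟨-, -, ⟨-, L, hL, hfam, -⟩⟩ := Alb.exists_isJacobian f hdim σ hσ ξ hξ huniv
  let j : Over.mk f ⟶ J := ψ.app (Over.mk f) L trivial hL
  have hj : Jac.IsAbelJacobiAt f σ ψ j := ⟨trivial, L, hL, hfam, rfl⟩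
  obtain ⟨e, he, he', hej, hpt⟩ := exists_iso_jac_class f hdim σ hσ ξ hξ huniv hJ hj
  haveI := he; haveI := he'
  obtain ⟨Pu, hPu₀, hPi⟩ := FppfPic.isInvertibleCl_pull (PicF.XTmap f e.inv) ξ.2.1
  have hd : ∀ t, degCl f (PicF.cl Pu) t = 0 := fun t => by
    rw [hPu₀, degCl_pull f e.inv ξ.2.1]
    exact (deg0At_iff f _ _).1 ((hasFibreDegreeZeroCl_iff f _).1 hξ _)
  have hok : (ModFun.PicDeg f 0).ok J Pu := (ok_iff f hdim 0 J Pu).2 ⟨hPi, hd⟩
  have hmap : ∀ {T : Over (Spec (CommRingCat.of k))} (g : T ⟶ J),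
      PicF.pullCl (PicF.XTmap f g) (PicF.cl Pu) = PicF.pullCl (PicF.XTmap f (g ≫ e.inv)) ξ.1 := fun g => by
    rw [hPu₀, FppfPic.pullCl_XTmap_comp]
  have hnorm : Jac.IsNormAlong f σ hσ J Pu := by
    show PicF.pullCl (PicF.secT f σ hσ J) (PicF.cl Pu) = 1
    rw [hPu₀]
    exact (rigPull f σ hσ e.inv ξ).2.2
  have hψ : ψ.app J Pu trivial hok = 𝟙 J := by
    rw [hpt J Pu hok e.inv 1 Alb.isInvertibleCl_one (by rw [pullCl_one, _root_.mul_one, hPu₀]), e.inv_hom_id]
  have hu : ModFun.IsUnivFamily ⊤ (ModFun.PicDeg f 0) J Pu := by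
    obtain ⟨E, hE, -⟩ := isInvertibleCl_univCl f σ hσ ξ (isInvertibleCl_one (Y := C))
    have hu₀ := isUnivFamily_picDeg f hdim σ hσ ξ hξ huniv isInvertibleCl_one (degX_one f) hE
    have hE' : PicF.cl E = ξ.1 := by rw [hE, univCl, tw, pullCl_one, _root_.mul_one]
    refine ⟨hok, fun T x _ hx => ?_⟩
    obtain ⟨g, hg, hg'⟩ := hu₀.2 T x trivial hx
    have hcl : ∀ a : T ⟶ J, PicF.cl ((ModFun.PicDeg f 0).pull a Pu) =
        PicF.cl ((ModFun.PicDeg f 0).pull (a ≫ e.inv) E) := fun a => by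
      show PicF.pullCl _ (PicF.cl Pu) = PicF.pullCl _ (PicF.cl E)
      rw [hmap, hE']
    refine ⟨g ≫ e.hom, ?_, fun a ha => ?_⟩
    · obtain ⟨m, hm, h⟩ := (r_iff f 0 T _ _).1 hg
      refine (r_iff f 0 T _ _).2 ⟨m, hm, ?_⟩
      rw [hcl, Category.assoc, e.hom_inv_id, Category.comp_id]
      exact h
    · obtain ⟨m, hm, h⟩ := (r_iff f 0 T _ _).1 ha
      rw [hcl] at h
      rw [← hg' _ ((r_iff f 0 T _ _).2 ⟨m, hm, h⟩), Category.assoc, e.inv_hom_id, Category.comp_id]
  refine ⟨Pu, hu, j, hPi, fun T a b hab => ?_, hnorm, hψ, hj, ?_, fun T c hc hs => ?_⟩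
  · rw [hmap, hmap] at hab
    rw [← cancel_mono e.inv]
    exact eq_of_rigPull f σ hσ ξ hξ huniv (Subtype.ext hab)
  · rw [← hej, ← Category.assoc, basePt_aj, IsMonHom.one_hom]
  · obtain ⟨hci, hcd⟩ := (PicRelC.isPicZeroCl_iff f hfib c).1 hc
    obtain ⟨g, hg, hg'⟩ := huniv T ⟨c, hci, hs.trans one_def⟩
      ((hasFibreDegreeZeroCl_iff f _).2 fun t => (deg0At_iff f _ _).2 (hcd t))
    refine ⟨g ≫ e.hom, ?_, fun a ha => ?_⟩
    · show PicF.pullCl (PicF.XTmap f (g ≫ e.hom)) _ = c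
      rw [hmap, Category.assoc, e.hom_inv_id, Category.comp_id]
      exact hg
    · have h2 := hg' (a ≫ e.inv) ((hmap a).symm.trans ha)
      rw [← h2, Category.assoc, e.inv_hom_id, Category.comp_id]

include hdim hσ hJ in
/-- **the homomorphism attached to the theta divisor is an isomorphism** (curve with a rational point) -/
theorem isIso_lambda {g : ℕ} (hg : Curv2.genus k C = g) (hg1 : 1 ≤ g)
    {N : C.Modules} (hN : PicF.IsInvertible N) (hNdeg : Curv2.deg k C N 1 = (g : ℤ) - 1)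
    {Θ : J.left.Modules} (hΘ : Jac.IsThetaLB (C ↘ Spec (CommRingCat.of k)) 0 ψ N Θ)
    {Jt : Over (Spec (CommRingCat.of k))} [GrpObj Jt] {φ : AgPol.DualMap J Jt}
    (hJt : AbDual.IsDualAV Scheme.fppfPrecoverage J Jt φ)
    {lam : J ⟶ Jt} (hlam : AgPol.IsLambda J Jt φ Θ lam) : IsIso lam := by
  let f := C ↘ Spec (CommRingCat.of k)
  obtain ⟨Pu, hPu, j, hPi, hPinj, hPn, hPuψ, hj, hσj, hcls⟩ := exists_univ_data C hdim σ hσ hJ
  obtain ⟨hp, hsm, hgi, hmono⟩ := coarse_mono C hdim σ hσ hJ hj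
  haveI := hp; haveI := hsm; haveI := hgi
  haveI : GeometricallyConnected J.hom := ⟨fun K _ x y fst snd h => by
      haveI : IrreducibleSpace y := GeometricallyIrreducible.geometrically_irreducibleSpace (f := J.hom) _ _ _ h
      infer_instance⟩
  obtain ⟨key, hinj⟩ := theta_identity C hdim σ hσ hJ hj hg hg1 Pu hPu hPn hPuψ hN hNdeg hΘ
  let C' : Over (Spec (CommRingCat.of k)) := Over.mk f
  let σP : 𝟙_ (Over (Spec (CommRingCat.of k))) ⟶ C' := Over.homMk σ hσ
  let u : PicF.Cl (C' ⊗ J).left := PicF.cl Pu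
  let θ : PicF.Cl J.left := PicF.cl Θ
  obtain ⟨M, hM, hML, hMlam⟩ := hlam
  let n : PicF.Cl (J ⊗ J).left := PicF.cl M
  have hz : AbDual.IsPicZeroCl J.hom J n := FinDesc.pz_lambdaSheaf hΘ.1 hM hML
  have hθ : PicF.IsInvertibleCl θ := ⟨Θ, rfl, hΘ.1⟩
  have hFu : ∀ {T : Over (Spec (CommRingCat.of k))} (w : T ⟶ J), IsUnit (F θ w) :=
    fun w => H23.CubeAb.isUnit_F hθ w
  have e0 : n * F θ (fst J J) * F θ (snd J J) = F θ μ[J] := (PicGrp.cl_eq_cl_iff _ _).2 hML
  have hn_rig : pl (lift (toUnit J ≫ η[J]) (𝟙 J)) n = 1 := by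
    have h := congrArg (pl (lift (toUnit J ≫ η[J]) (𝟙 J))) e0
    simp only [map_mul, H23.CubeAb.pull_F, lift_fst, lift_snd] at h
    rw [show lift (toUnit J ≫ η[J]) (𝟙 J) ≫ μ[J] = 𝟙 J by
        rw [show lift (toUnit J ≫ η[J]) (𝟙 J) ≫ μ[J] = (toUnit J ≫ η[J]) * 𝟙 J from (Hom.mul_def _ _).symm,
          show toUnit J ≫ η[J] = (1 : J ⟶ J) from (Hom.one_def).symm, _root_.one_mul],
      H23.CubeAb.F_const hθ, _root_.mul_one] at h
    exact (hFu (𝟙 J)).mul_eq_right.1 h
  have hjn : pl (j ▷ J) n * u = 1 := by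
    have h := congrArg (pl (j ▷ J)) e0
    simp only [map_mul, H23.CubeAb.pull_F, whiskerRight_fst, whiskerRight_snd] at h
    rw [show (j ▷ J) ≫ μ[J] = (fst C' J ≫ j) * snd C' J by
      rw [show (fst C' J ≫ j) * snd C' J = lift (fst C' J ≫ j) (snd C' J) ≫ μ[J] from Hom.mul_def _ _,
        show lift (fst C' J ≫ j) (snd C' J) = j ▷ J from
          CartesianMonoidalCategory.hom_ext _ _ (by simp [C', f]) (by simp [C', f])]] at h
    refine ((hFu (fst C' J ≫ j)).mul (hFu (snd C' J))).mul_eq_right.1 ?_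
    calc pl (j ▷ J) n * u * (F θ (fst C' J ≫ j) * F θ (snd C' J))
        = pl (j ▷ J) n * F θ (fst C' J ≫ j) * F θ (snd C' J) * u := by ac_rfl
      _ = F θ ((fst C' J ≫ j) * snd C' J) * u := by rw [h]
      _ = F θ (fst C' J ≫ j) * F θ (snd C' J) := key
  -- rigidification of a class on `J × T`
  let sT : ∀ T : Over (Spec (CommRingCat.of k)), T ⟶ J ⊗ T := fun T => lift (toUnit T ≫ η[J]) (𝟙 T)
  have hsec : ∀ T, PicF.secT f σ hσ T ≫ (j ▷ T).left = (sT T).left := fun T => by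
    have e1 : PicF.secT f σ hσ T = (lift (toUnit T ≫ σP) (𝟙 T)).left := by
      refine pullback.hom_ext ?_ ?_
      · refine (pullback.lift_fst _ _ _).trans ?_
        show _ = (lift (toUnit T ≫ σP) (𝟙 T)).left ≫ (fst C' T).left
        rw [← Over.comp_left, lift_fst]
        rfl
      · refine (pullback.lift_snd _ _ _).trans ?_
        show _ = (lift (toUnit T ≫ σP) (𝟙 T)).left ≫ (snd C' T).left
        rw [← Over.comp_left, lift_snd]
        rfl
    rw [e1, ← Over.comp_left, show lift (toUnit T ≫ σP) (𝟙 T) ≫ (j ▷ T) = sT T from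
      CartesianMonoidalCategory.hom_ext _ _ (by simp [sT, ← hσj, σP, C', f]) (by simp [sT])]
  -- the inverse homomorphism
  have hE : ∀ (T : Over (Spec (CommRingCat.of k))) (c : PicF.Cl (J ⊗ T).left), AbDual.IsPicZeroCl J.hom T c →
      ∃ a : T ⟶ J, pl (C' ◁ a) u * pl (snd C' T) (pl (sT T) c) = pl (j ▷ T) c := by
    intro T c hc
    let r := pl (sT T) c
    have hr : PicF.IsInvertibleCl r := FppfPic.isInvertibleCl_pull _ (AbDualBase.pz_invertible hc)
    let c₀ := pl (snd J T) (invCl hr) * c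
    have hc₀ : AbDual.IsPicZeroCl J.hom T c₀ := PicZeroPrim.pz_base_mul (isInvertibleCl_invCl hr) hc
    have hc₀s : PicF.pullCl (PicF.secT f σ hσ T) (pl (j ▷ T) c₀) = 1 := by
      show PicF.pullCl _ (PicF.pullCl (j ▷ T).left c₀) = 1
      rw [PicClLib.pullCl_comp, hsec]
      show pl (sT T) (pl (snd J T) (invCl hr) * c) = 1
      rw [map_mul, pl_pl, lift_snd]
      show PicF.pullCl (𝟙 T : T ⟶ T).left (invCl hr) * r = 1
      rw [Over.id_left, PicClLib.pullCl_id, invCl_mul]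
    have hjc : AbDual.IsPicZeroCl f T (pl (j ▷ T) c₀) := by
      have h := AbDualBase.pz_bc (A := C') j hc₀
      rw [PicZeroPrim.bcMap_eq] at h
      exact h
    obtain ⟨a, ha, -⟩ := hcls T _ hjc hc₀s
    refine ⟨a, ?_⟩
    have ha' : pl (C' ◁ a) u = pl (j ▷ T) c₀ := by
      rw [← ha, show PicF.XTmap f a = (C' ◁ a).left from PicZeroPrim.xtMap_eq (X := C') a]
      rfl
    rw [ha', show c₀ = pl (snd J T) (invCl hr) * c from rfl, map_mul, pl_pl, whiskerRight_snd,
      mul_right_comm, ← map_mul, invCl_mul, map_one, _root_.one_mul]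
  choose E hE' using hE
  classical
  let E' : ∀ T : Over (Spec (CommRingCat.of k)), PicF.Cl (PicF.XT J.hom T) → (T ⟶ J) := fun T c =>
    if h : AbDual.IsPicZeroCl J.hom T c then E T c h else 1
  have huniq : ∀ {T : Over (Spec (CommRingCat.of k))} (a b : T ⟶ J) (r : PicF.Cl T.left), PicF.IsInvertibleCl r →
      pl (C' ◁ a) u * pl (snd C' T) r = pl (C' ◁ b) u * pl (snd C' T) r → a = b := by
    intro T a b r hr h
    have hab : pl (C' ◁ a) u = pl (C' ◁ b) u :=
      eq_of_invCl_mul (FppfPic.isInvertibleCl_pull _ hr) h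
    have e : ∀ z : T ⟶ J, PicF.pullCl (PicF.XTmap f z) (PicF.cl Pu) = pl (C' ◁ z) u := fun z => by
      rw [show PicF.XTmap f z = (C' ◁ z).left from PicZeroPrim.xtMap_eq (X := C') z]
      rfl
    exact hPinj T a b (by rw [e, e, hab])
  obtain ⟨δ, hδ⟩ := AbDualBase.exists_hom hJt E' fun T T' g c hc => by
    have hc' : AbDual.IsPicZeroCl J.hom T' (PicF.pullCl (PicF.XTmap J.hom g) c) := AbDualBase.pz_xtMap g hc
    simp only [E', dif_pos hc, dif_pos hc']
    refine huniq _ _ _ (FppfPic.isInvertibleCl_pull _ (AbDualBase.pz_invertible hc')) ((hE' T' _ hc').trans ?_)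
    have h := congrArg (pl (C' ◁ g)) (hE' T c hc)
    rw [map_mul, pl_pl (C' ◁ g) (C' ◁ _), pl_pl (C' ◁ g) (snd C' T), pl_pl (C' ◁ g) (j ▷ T),
      ← MonoidalCategory.whiskerLeft_comp, whiskerLeft_snd, MonoidalCategory.whisker_exchange] at h
    rw [show PicF.pullCl (PicF.XTmap J.hom g) c = pl (J ◁ g) c by rw [PicZeroPrim.xtMap_eq]; rfl]
    show pl (j ▷ T') (pl (J ◁ g) c) = pl (C' ◁ (g ≫ E T c hc)) u * pl (snd C' T') (pl (sT T') (pl (J ◁ g) c))
    rw [pl_pl, pl_pl, pl_pl, ← h, pl_pl, Category.assoc, Category.assoc, show sT T' ≫ (J ◁ g) = g ≫ sT T from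
      CartesianMonoidalCategory.hom_ext _ _ (by simp [sT]) (by simp [sT])]
  have hδ' : ∀ (T : Over (Spec (CommRingCat.of k))) (c : PicF.Cl (J ⊗ T).left) (hc : AbDual.IsPicZeroCl J.hom T c),
      φ T c ≫ δ = E T c hc := fun T c hc => (hδ T c hc).trans (dif_pos hc)
  have h1 : lam ≫ δ = (𝟙 J)⁻¹ := by
    rw [← hMlam, hδ' J n hz]
    have h := hE' J n hz
    rw [hn_rig, map_one, _root_.mul_one] at h
    refine eq_inv_of_mul_eq_one_left (hinj J _ (𝟙 J) ?_)
    rw [h, MonoidalCategory.whiskerLeft_id, show pl (𝟙 (C' ⊗ J)) u = u from PicClLib.pullCl_id u]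
    exact hjn
  have key2 : ∀ (T : Over (Spec (CommRingCat.of k))) (c : PicF.Cl (J ⊗ T).left) (hc : AbDual.IsPicZeroCl J.hom T c),
      E T c hc ≫ lam = (φ T c)⁻¹ := fun T c hc => by
    let a : T ⟶ J := E T c hc
    let r := pl (sT T) c
    have hr : PicF.IsInvertibleCl r := FppfPic.isInvertibleCl_pull _ (AbDualBase.pz_invertible hc)
    let c₀ := pl (snd J T) (invCl hr) * c
    have hc₀ : AbDual.IsPicZeroCl J.hom T c₀ := PicZeroPrim.pz_base_mul (isInvertibleCl_invCl hr) hc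
    let m : PicF.Cl (J ⊗ T).left := pl (J ◁ a) n
    have hmz : AbDual.IsPicZeroCl J.hom T m := by
      have h := AbDualBase.pz_xtMap a hz
      rw [PicZeroPrim.xtMap_eq] at h
      exact h
    have hmrig : pl (sT T) m = 1 := by
      show pl _ (pl (J ◁ a) n) = 1
      rw [pl_pl, show sT T ≫ (J ◁ a) = a ≫ sT J from
        CartesianMonoidalCategory.hom_ext _ _ (by simp [sT]) (by simp [sT]), ← pl_pl, hn_rig, map_one]
    have hc₀rig : pl (sT T) c₀ = 1 := by
      show pl (sT T) (pl (snd J T) (invCl hr) * c) = 1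
      rw [map_mul, pl_pl, lift_snd]
      show PicF.pullCl (𝟙 T : T ⟶ T).left (invCl hr) * r = 1
      rw [Over.id_left, PicClLib.pullCl_id, invCl_mul]
    have h0 : m * c₀ = 1 := by
      refine hmono T (m * c₀) (H23.PicMul.isInvertibleCl_mul (AbDualBase.pz_invertible hmz)
        (AbDualBase.pz_invertible hc₀)) (fun R x y t => ?_) ?_
      · have h1 := add_of_pz hJt hmz (by rw [PicZeroPrim.secT_eq]; exact hmrig) R x y t
        have h2 := add_of_pz hJt hc₀ (by rw [PicZeroPrim.secT_eq]; exact hc₀rig) R x y t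
        rw [map_mul (pl (lift (x * y) t)) m c₀, map_mul (pl (lift x t)) m c₀, map_mul (pl (lift y t)) m c₀, h1, h2]
        exact mul_mul_mul_comm _ _ _ _
      · show pl (j ▷ T) (pl (J ◁ a) n * (pl (snd J T) (invCl hr) * c)) = 1
        rw [map_mul, map_mul, pl_pl, ← MonoidalCategory.whisker_exchange, ← pl_pl, pl_pl (j ▷ T) (snd J T),
          whiskerRight_snd, ← hE' T c hc, show pl (C' ◁ E T c hc) u * pl (snd C' T) r =
            pl (snd C' T) r * pl (C' ◁ a) u from _root_.mul_comm _ _, ← _root_.mul_assoc (pl (snd C' T) (invCl hr)),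
          ← map_mul (pl (snd C' T)), invCl_mul, map_one, _root_.one_mul, ← map_mul, hjn, map_one]
    have hm : φ T m = a ≫ lam := by
      have h := hJt.relPic.natural J T a (PicF.cl M) hz
      rw [PicZeroPrim.xtMap_eq, hMlam] at h
      exact h
    have hc0 : φ T c₀ = φ T c := by
      have hbase : AbDual.IsPicZeroCl J.hom T (pl (snd J T) (invCl hr)) := by
        have h := PicZeroPrim.pz_base_mul (isInvertibleCl_invCl hr) (AbDualBase.pz_one (A := J) T)
        rwa [_root_.mul_one] at h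
      rw [show φ T c₀ = φ T (pl (snd J T) (invCl hr)) * φ T c from AbDualBase.phi_mul hJt hbase hc,
        show φ T (pl (snd J T) (invCl hr)) = 1 from AbDualBase.phi_base hJt (isInvertibleCl_invCl hr) hbase,
        _root_.one_mul]
    have h3 := AbDualBase.phi_mul hJt hmz hc₀
    rw [h0, AbDualBase.phi_one hJt, hm, hc0] at h3
    exact eq_inv_of_mul_eq_one_left h3.symm
  have h2 : δ ≫ lam = (𝟙 Jt)⁻¹ := by
    refine AbDualBase.dual_hom_ext hJt fun T c hc => ?_
    rw [GrpObj.comp_inv, Category.comp_id, ← Category.assoc, hδ' T c hc]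
    exact key2 T c hc
  have hi : ∀ A : Over (Spec (CommRingCat.of k)), ∀ [GrpObj A], (𝟙 A)⁻¹ ≫ (𝟙 A)⁻¹ = 𝟙 A := fun A _ => by
    rw [GrpObj.comp_inv, Category.comp_id, inv_inv]
  haveI : IsSplitMono lam := IsSplitMono.mk' ⟨δ ≫ (𝟙 J)⁻¹, by rw [← Category.assoc, h1, hi]⟩
  haveI : IsSplitEpi lam := IsSplitEpi.mk' ⟨(𝟙 Jt)⁻¹ ≫ δ, by rw [Category.assoc, h2, hi]⟩
  exact isIso_of_mono_of_isSplitEpi lam

end Groth.Agent.PicCurve.ThetaPull

end
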