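import Groth.Agent.PicCurve.ThetaPull.Coarse
import Groth.Agent.PicCurve.Alb.FineIsJac
import Groth.Agent.PicCurve.Torelli.Extension
import Groth.Agent.S8124

/-!
# The pullback of the Mumford bundle of theta along the Abel map
-/

noncomputable section

set_option autoImplicit false
set_option linter.style.haveILetI false
set_option linter.unusedSectionVars false
set_option backward.isDefEq.respectTransparency false
set_option backward.isDefEq.respectTransparency.types false
set_option maxHeartbeats 1000000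
set_option synthInstance.maxHeartbeats 400000
attribute [-instance] CategoryTheory.catToReflQuiver

universe u

open CategoryTheory CategoryTheory.Limits AlgebraicGeometry TopologicalSpace
  MonoidalCategory CartesianMonoidalCategory
open scoped MonObj
open Groth.Agent.H23.PicMul

namespace Groth.Agent.PicCurve.ThetaPull

open Alb Pts
open Groth.Agent.H23.CubeAb (F)

section Closed

variable {k : Type u} [Field k] [IsAlgClosed k] (C : Scheme.{u}) [C.Over (Spec (CommRingCat.of k))]
  [IsProper (C ↘ Spec (CommRingCat.of k))] [Smooth (C ↘ Spec (CommRingCat.of k))]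
  [SmoothOfRelativeDimension 1 (C ↘ Spec (CommRingCat.of k))]
  [GeometricallyIntegral (C ↘ Spec (CommRingCat.of k))] [IsIntegral C]
  [GeometricallyConnected (C ↘ Spec (CommRingCat.of k))]
  (hdim : topologicalKrullDim C = 1) (σ : Spec (CommRingCat.of k) ⟶ C)
  (hσ : σ ≫ (C ↘ Spec (CommRingCat.of k)) = 𝟙 _)
  {J : Over (Spec (CommRingCat.of k))} [IsProper J.hom] [Smooth J.hom] [GeometricallyIntegral J.hom]
  [IrreducibleSpace J.left]
  (ξ : PicF.Rig (C ↘ Spec (CommRingCat.of k)) σ hσ J) (hξ : FGA.HasFibreDegreeZeroCl (C ↘ Spec (CommRingCat.of k)) J ξ.1)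
  (huniv : ∀ (T : Over (Spec (CommRingCat.of k))) (c : PicF.Rig (C ↘ Spec (CommRingCat.of k)) σ hσ T),
    FGA.HasFibreDegreeZeroCl (C ↘ Spec (CommRingCat.of k)) T c.1 →
    ∃! g : T ⟶ J, PicF.pullCl (PicF.XTmap (C ↘ Spec (CommRingCat.of k)) g) ξ.1 = c.1)

include hdim hξ huniv in
/-- over an algebraically closed field the pullback of the Mumford bundle of theta is inverse to the universal class -/
theorem lambda_pull_closed {g : ℕ} (hg : Curv2.genus k C = g) (hg1 : 1 ≤ g) (a₀ : 𝟙_ (Over (Spec (CommRingCat.of k))) ⟶ J)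
    {L : J.left.Modules} (hL : PicF.IsInvertible L)
    (hLI : letI := jacGrpObj (C ↘ Spec (CommRingCat.of k)) hdim σ hσ ξ hξ huniv
      haveI := jac_isCommMonObj (C ↘ Spec (CommRingCat.of k)) hdim σ hσ ξ hξ huniv
      ClSub.IsInverseOf L (ClSub.idealMod (Scheme.IdealSheafData.vanishingIdeal
        ⟨closure (thetaMinus C (j := aj (C ↘ Spec (CommRingCat.of k)) hdim σ hσ ξ hξ huniv) (g - 1) a₀),
          isClosed_closure⟩))) :
    letI := jacGrpObj (C ↘ Spec (CommRingCat.of k)) hdim σ hσ ξ hξ huniv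
    let x := fst (Over.mk (C ↘ Spec (CommRingCat.of k))) J ≫ aj (C ↘ Spec (CommRingCat.of k)) hdim σ hσ ξ hξ huniv
    let q := snd (Over.mk (C ↘ Spec (CommRingCat.of k))) J
    F (PicF.cl L) (x * q) * (show PicF.Cl (Over.mk (C ↘ Spec (CommRingCat.of k)) ⊗ J).left from ξ.1) =
      F (PicF.cl L) x * F (PicF.cl L) q := by
  let f := C ↘ Spec (CommRingCat.of k)
  letI := jacGrpObj f hdim σ hσ ξ hξ huniv
  haveI := jac_isCommMonObj f hdim σ hσ ξ hξ huniv
  intro x q
  let ξ' : PicF.Cl (Over.mk f ⊗ J).left := ξ.1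
  show F (PicF.cl L) (x * q) * ξ' = _
  obtain ⟨ψ, hJ, hj⟩ := exists_isJacobian f hdim σ hσ ξ hξ huniv
  let α := aj f hdim σ hσ ξ hξ huniv
  let C' : Over (Spec (CommRingCat.of k)) := Over.mk f
  let σP : 𝟙_ (Over (Spec (CommRingCat.of k))) ⟶ C' := Over.homMk σ hσ
  have hgen : 0 < gen f := show 0 < Curv2.genus k C by omega
  have hσα : σP ≫ α = η[J] := basePt_aj f hdim σ hσ ξ hξ huniv
  -- the universal family
  obtain ⟨E, hE, -⟩ := isInvertibleCl_univCl f σ hσ ξ (isInvertibleCl_one (Y := C))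
  have hu := isUnivFamily_picDeg f hdim σ hσ ξ hξ huniv isInvertibleCl_one (degX_one f) hE
  have hE' : PicF.cl E = ξ.1 := by
    have := pull_univCl f σ hσ ξ (a := (1 : PicF.Cl C)) (𝟙 J)
    rw [← hE, show PicF.XTmap f (𝟙 J) = 𝟙 _ from pullback.hom_ext (by simp [PicF.XTmap]) (by simp [PicF.XTmap]),
      PicClLib.pullCl_id, PicClLib.pullCl_id, tw, pullCl_one, _root_.mul_one] at this
    exact this
  obtain ⟨e, he, -, hej, hpt⟩ := exists_iso_jac_class f hdim σ hσ ξ hξ huniv hJ hj
  haveI := he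
  have heid : e.hom = 𝟙 J := by
    obtain ⟨χ, -, hu'⟩ := existsUnique_hom f hdim σ hσ ξ hξ huniv hgen α hσα
    exact (hu' e.hom ⟨he, hej⟩).trans (hu' (𝟙 J) ⟨inferInstance, Category.comp_id _⟩).symm
  have hψ : ψ.app J E trivial hu.1 = 𝟙 J := by
    rw [hpt J E hu.1 (𝟙 J) 1 isInvertibleCl_one (by
      rw [pullCl_one, _root_.mul_one, hE',
        show PicF.XTmap f (𝟙 J) = 𝟙 _ from pullback.hom_ext (by simp [PicF.XTmap]) (by simp [PicF.XTmap]),
        PicClLib.pullCl_id]), heid, Category.comp_id]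
  have hEn : Jac.IsNormAlong f σ hσ J E := by
    show PicF.pullCl _ (PicF.cl E) = PicF.cl _
    rw [hE']
    exact ξ.2.2
  obtain ⟨h1, h2⟩ := coarse_family C hdim σ hσ hJ hj hg hg1 a₀ hL hLI
  have h3 := h2 E hu hEn hψ
  rw [hE'] at h3
  let l := PicF.cl L
  have hl : PicF.IsInvertibleCl l := ⟨L, rfl, hL⟩
  let T₀ : PicF.Cl (C' ⊗ J).left := tw f (δ σ) J ^ g
  let a : C' ⊗ J ⟶ J := toUnit _ ≫ a₀
  have h4 := h1 fun _ => σP
  have hprod1 : (List.ofFn fun _ : Fin g => σP ≫ α).prod = 1 := by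
    rw [hσα, List.ofFn_const, List.prod_replicate, MonObj.one_eq_one, one_pow]
  rw [show (List.ofFn fun _ : Fin g => σP ≫ aj f hdim σ hσ ξ hξ huniv).prod = 1 from hprod1, inv_one, _root_.one_mul,
    show (List.ofFn fun _ : Fin g => ptCl f σP).prod = δ σ ^ g by simp [δ, σP]; rfl] at h4
  have ea : F l (x * a) * T₀ = 1 := by
    have e : x * a = fst C' J ≫ α ≫ Jac.transl J a₀ := by
      rw [← Category.assoc, Pts.comp_transl]
    rw [e, show F l (fst C' J ≫ α ≫ Jac.transl J a₀) = PicF.pullCl (fst C' J).left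
        (PicF.pullCl (α ≫ Jac.transl J a₀).left l) from
        (PicClLib.pullCl_comp (fst C' J).left (α ≫ Jac.transl J a₀).left l).symm,
      show T₀ = PicF.pullCl (fst C' J).left (δ σ ^ g) from (Alb.pullCl_pow _ _ g).symm,
      ← pullCl_mul, h4, pullCl_one]
  let y := q⁻¹
  have e2 : ξ' * F l (y * a) = F l (x * y * a) * T₀ := by
    refine Eq.trans ?_ (h3.trans ?_)
    · congr 1
      have e : y * a = q ≫ (𝟙 J)⁻¹ ≫ Jac.transl J a₀ := by
        rw [← Category.assoc, Pts.comp_transl, GrpObj.comp_inv, Category.comp_id]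
      rw [e]
      exact (PicClLib.pullCl_comp q.left ((𝟙 J)⁻¹ ≫ Jac.transl J a₀).left l).symm
    · congr 1
      have e : x * y * a = ((fst C' J ≫ α) * (snd C' J)⁻¹) ≫ Jac.transl J a₀ := by
        rw [Pts.comp_transl]
      rw [e]
      rfl
  have hu1 : ∀ u : C' ⊗ J ⟶ J, IsUnit (F l u) := fun u => H23.CubeAb.isUnit_F hl u
  have hca : F l a = 1 := H23.CubeAb.F_const hl a₀
  have c1 := H23.CubeAb.cube hl x y a
  rw [hca, _root_.mul_one] at c1
  have e3 : ξ' * (F l x * F l y) = F l (x * y) := by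
    refine (hu1 (y * a)).mul_left_cancel ?_
    calc F l (y * a) * (ξ' * (F l x * F l y))
        = (ξ' * F l (y * a)) * (F l x * F l y) := by ac_rfl
      _ = T₀ * (F l (x * y * a) * F l x * F l y) := by rw [e2]; ac_rfl
      _ = T₀ * (F l (x * y) * F l (x * a) * F l (y * a)) := by rw [c1]
      _ = F l (y * a) * F l (x * y) * (F l (x * a) * T₀) := by ac_rfl
      _ = F l (y * a) * F l (x * y) := by rw [ea, _root_.mul_one]
  have c2 := H23.CubeAb.cube hl x q y
  rw [show x * q * y = x from mul_inv_cancel_right x q, show q * y = 1 from mul_inv_cancel q,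
    H23.CubeAb.F_one hl, _root_.mul_one] at c2
  refine ((hu1 x).mul (hu1 y)).mul_left_cancel ?_
  calc F l x * F l y * (F l (x * q) * ξ') = F l (x * q) * (ξ' * (F l x * F l y)) := by ac_rfl
    _ = F l (x * q) * F l (x * y) := by rw [e3]
    _ = F l x * F l x * F l q * F l y := c2.symm
    _ = F l x * F l y * (F l x * F l q) := by ac_rfl

end Closed

end Groth.Agent.PicCurve.ThetaPull

end
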