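import Groth.Agent.PicCurve.ThetaPull.LambdaDescend
import Groth.Agent.PicCurve.PicMono.Main
import Groth.Agent.Lib.PicZeroPrim

/-!
# The theta divisor on a coarse Jacobian: the pullback of its Mumford bundle
-/

noncomputable section

set_option autoImplicit false
set_option linter.style.haveILetI false
set_option linter.unusedSectionVars false
set_option backward.isDefEq.respectTransparency false
set_option backward.isDefEq.respectTransparency.types false
set_option maxHeartbeats 1000000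
set_option synthInstance.maxHeartbeats 400000
attribute [-instance] CategoryTheory.catToReflQuiver

universe u

open CategoryTheory CategoryTheory.Limits AlgebraicGeometry TopologicalSpace
  MonoidalCategory CartesianMonoidalCategory
open scoped MonObj
open Groth.Agent.H23.PicMul
open scoped CategoryTheory.Obj

namespace Groth.Agent.PicCurve.ThetaPull

open Alb Pts
open Groth.Agent.H23.CubeAb (F)
open Groth.Agent.AVPair (pl pl_pl)

section Primitive

variable {k : Type u} [Field k] {X Xt : Over (Spec (CommRingCat.of k))} [GrpObj X] [GrpObj Xt] [IsProper X.hom]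
  [Smooth X.hom] [GeometricallyConnected X.hom]
  {φ : ∀ T : Over (Spec (CommRingCat.of k)), PicF.Cl (PicF.XT X.hom T) → (T ⟶ Xt)}
  (hφ : AbDual.IsDualAV Scheme.fppfPrecoverage X Xt φ)

include hφ in
/-- rigidified classes in the connected component are additive in the variable of the abelian variety -/
theorem add_of_pz {T : Over (Spec (CommRingCat.of k))} {c : PicF.Cl (X ⊗ T).left}
    (hc : AbDual.IsPicZeroCl X.hom T c)
    (hrig : PicF.pullCl (PicF.secT X.hom η[X].left (Over.w η[X]) T) c = 1)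
    (R : Over (Spec (CommRingCat.of k))) (x y : R ⟶ X) (t : R ⟶ T) :
    pl (lift (x * y) t) c = pl (lift x t) c * pl (lift y t) c := by
  haveI : GeometricallyIntegral X.hom := AVDual.geometricallyIntegral_of_smooth X
  haveI : IsCommMonObj X := isCommMonObj_of_isProper_of_geometricallyIntegral X
  let m : R ⟶ X ⊗ (X ⊗ T) := lift x (lift y t)
  let tr : X ⊗ (X ⊗ T) ⟶ X ⊗ T :=
    lift (fst X (X ⊗ T) * (snd X (X ⊗ T) ≫ fst X T)) (snd X (X ⊗ T) ≫ snd X T)
  have h : pl m (pl tr c) = pl m (pl (snd X (X ⊗ T)) c * pl (X ◁ snd X T) c) := by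
    refine congrArg _ ?_
    have := PicZeroPrim.primitive hφ hc hrig
    rw [PicZeroPrim.xtMap_eq] at this
    exact this
  rw [map_mul, pl_pl, pl_pl, pl_pl, show m ≫ tr = lift (x * y) t by
      refine CartesianMonoidalCategory.hom_ext _ _ ?_ ?_ <;> simp [m, tr, MonObj.comp_mul],
    show m ≫ snd X (X ⊗ T) = lift y t from lift_snd _ _,
    show m ≫ (X ◁ snd X T) = lift x t by refine CartesianMonoidalCategory.hom_ext _ _ ?_ ?_ <;> simp [m],
    _root_.mul_comm (pl (lift y t) c)] at h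
  exact h

end Primitive

variable {k : Type u} [Field k] (C : Scheme.{u}) [C.Over (Spec (CommRingCat.of k))]
  [IsProper (C ↘ Spec (CommRingCat.of k))] [Smooth (C ↘ Spec (CommRingCat.of k))]
  [GeometricallyConnected (C ↘ Spec (CommRingCat.of k))]
  (hdim : topologicalKrullDim C = 1) (σ : Spec (CommRingCat.of k) ⟶ C)
  (hσ : σ ≫ (C ↘ Spec (CommRingCat.of k)) = 𝟙 _)
  {J : Over (Spec (CommRingCat.of k))} [GrpObj J] [IsCommMonObj J]
  {ψ : (ModFun.PicDeg (C ↘ Spec (CommRingCat.of k)) 0).Hom ⊤ J}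
  (hJ : Jac.IsJacobian (C ↘ Spec (CommRingCat.of k)) ⊤ J ψ)
  {j : Over.mk (C ↘ Spec (CommRingCat.of k)) ⟶ J}
  (hj : Jac.IsAbelJacobiAt (C ↘ Spec (CommRingCat.of k)) σ ψ j)

include hdim σ hσ hJ hj in
/-- the Jacobian is an abelian variety on which additive classes are detected on the curve -/
theorem coarse_mono :
    IsProper J.hom ∧ Smooth J.hom ∧ GeometricallyIntegral J.hom ∧
      ∀ (T : Over (Spec (CommRingCat.of k))) (c : PicF.Cl (J ⊗ T).left), PicF.IsInvertibleCl c →
        (∀ (R : Over (Spec (CommRingCat.of k))) (x y : R ⟶ J) (t : R ⟶ T),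
          pl (lift (x * y) t) c = pl (lift x t) c * pl (lift y t) c) →
        pl (j ▷ T) c = 1 → c = 1 := by
  let f := C ↘ Spec (CommRingCat.of k)
  haveI : IsProper f := ‹_›
  haveI : Smooth f := ‹_›
  haveI : ConnectedSpace C := connectedSpace_of_geomConn f
  haveI : GeometricallyIntegral f := Groth.Agent.S7791.result f σ hσ
  haveI : IsIntegral C := GeometricallyIntegral.isIntegral_of_subsingleton f
  haveI : SmoothOfRelativeDimension 1 f := Groth.Agent.HilbCurve.smoothOfRelativeDimension_one f hdim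
  obtain ⟨J₀, ξ, hp, hsm, hi, hξ, huniv⟩ := Groth.Agent.PicCurve.exists_jacobian_field f hdim σ hσ
  haveI := hp; haveI := hsm; haveI := hi
  haveI : IrreducibleSpace J₀.left := GeometricallyIrreducible.irreducibleSpace_of_subsingleton J₀.hom
  letI := PicCurve.jacGrpObj f hdim σ hσ ξ hξ huniv
  haveI : GeometricallyIntegral J₀.hom := Groth.Agent.S7791.result J₀.hom η[J₀].left (Over.w η[J₀])
  obtain ⟨e, he, he', hej, -⟩ := exists_iso_jac_class f hdim σ hσ ξ hξ huniv hJ hj
  haveI := he; haveI := he'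
  refine ⟨by rw [← Over.w e.inv]; infer_instance, by rw [← Over.w e.inv]; infer_instance,
    (by rw [← Over.w e.inv]; exact (MorphismProperty.cancel_left_of_respectsIso @GeometricallyIntegral _ _).2 inferInstance),
    fun T c hc hadd hjc => ?_⟩
  have h0 : pl (e.hom ▷ T) c = 1 := by
    refine PicMono.eq_one_of_aj hdim σ hσ ξ hξ huniv T (FppfPic.isInvertibleCl_pull _ hc) (fun R x y t => ?_) ?_
    · have hl : ∀ z : R ⟶ J₀, lift z t ≫ (e.hom ▷ T) = lift (z ≫ e.hom) t := fun z =>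
        CartesianMonoidalCategory.hom_ext _ _ (by simp) (by simp)
      show pl (lift (x * y) t) (pl (e.hom ▷ T) c) = pl (lift x t) (pl (e.hom ▷ T) c) * pl (lift y t) (pl (e.hom ▷ T) c)
      rw [pl_pl, pl_pl, pl_pl, hl, hl, hl, MonObj.mul_comp]
      exact hadd R _ _ t
    · show pl (aj f hdim σ hσ ξ hξ huniv ▷ T) (pl (e.hom ▷ T) c) = 1
      rw [pl_pl, ← MonoidalCategory.comp_whiskerRight, hej]
      exact hjc
  have h1 := congrArg (pl (e.inv ▷ T)) h0
  rw [map_one, pl_pl, ← MonoidalCategory.comp_whiskerRight, e.inv_hom_id, MonoidalCategory.id_whiskerRight] at h1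
  rw [← h1]
  exact (PicClLib.pullCl_id c).symm

include hdim σ hσ hJ hj in
/-- the pullback along the Abel map of the Mumford bundle of theta, and the injectivity of the universal family -/
theorem theta_identity {g : ℕ} (hg : Curv2.genus k C = g) (hg1 : 1 ≤ g)
    (Pu : (PicF.XT (C ↘ Spec (CommRingCat.of k)) J).Modules)
    (hPu : ModFun.IsUnivFamily ⊤ (ModFun.PicDeg (C ↘ Spec (CommRingCat.of k)) 0) J Pu)
    (hPn : Jac.IsNormAlong (C ↘ Spec (CommRingCat.of k)) σ hσ J Pu)
    (hPuψ : ψ.app J Pu trivial hPu.1 = 𝟙 J)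
    {N : C.Modules} (hN : PicF.IsInvertible N) (hNdeg : Curv2.deg k C N 1 = (g : ℤ) - 1)
    {Θ : J.left.Modules} (hΘ : Jac.IsThetaLB (C ↘ Spec (CommRingCat.of k)) 0 ψ N Θ) :
    let C' : Over (Spec (CommRingCat.of k)) := Over.mk (C ↘ Spec (CommRingCat.of k))
    let u : PicF.Cl (C' ⊗ J).left := PicF.cl Pu
    (F (PicF.cl Θ) ((fst C' J ≫ j) * snd C' J) * u =
        F (PicF.cl Θ) (fst C' J ≫ j) * F (PicF.cl Θ) (snd C' J)) ∧
      ∀ (T : Over (Spec (CommRingCat.of k))) (a b : T ⟶ J), pl (C' ◁ a) u * pl (C' ◁ b) u = 1 → a * b = 1 := by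
  let f := C ↘ Spec (CommRingCat.of k)
  haveI : IsProper f := ‹_›
  haveI : Smooth f := ‹_›
  haveI : ConnectedSpace C := connectedSpace_of_geomConn f
  haveI : GeometricallyIntegral f := Groth.Agent.S7791.result f σ hσ
  haveI : IsIntegral C := GeometricallyIntegral.isIntegral_of_subsingleton f
  haveI : SmoothOfRelativeDimension 1 f := Groth.Agent.HilbCurve.smoothOfRelativeDimension_one f hdim
  obtain ⟨J₀, ξ, hp, hsm, hi, hξ, huniv⟩ := Groth.Agent.PicCurve.exists_jacobian_field f hdim σ hσ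
  haveI := hp; haveI := hsm; haveI := hi
  haveI : IrreducibleSpace J₀.left := GeometricallyIrreducible.irreducibleSpace_of_subsingleton J₀.hom
  letI := PicCurve.jacGrpObj f hdim σ hσ ξ hξ huniv
  haveI := jac_isCommMonObj f hdim σ hσ ξ hξ huniv
  haveI : GeometricallyIntegral J₀.hom := Groth.Agent.S7791.result J₀.hom η[J₀].left (Over.w η[J₀])
  obtain ⟨e, he, he', hej, hpt⟩ := exists_iso_jac_class f hdim σ hσ ξ hξ huniv hJ hj
  haveI := he; haveI := he'
  intro C' u
  -- the universal class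
  obtain ⟨hPi, hPd⟩ := (ok_iff f hdim 0 J Pu).1 hPu.1
  obtain ⟨g₀, hg₀, -⟩ := huniv J ⟨PicF.cl Pu, ⟨Pu, rfl, hPi⟩, hPn.trans one_def.symm⟩
    ((hasFibreDegreeZeroCl_iff f _).2 fun s => (deg0At_iff f _ _).2 (hPd s))
  have hu : pl (C' ◁ e.inv) (show PicF.Cl (C' ⊗ J₀).left from ξ.1) = u := by
    have hψ : ψ.app J Pu trivial hPu.1 = g₀ ≫ e.hom := hpt J Pu hPu.1 g₀ 1 Alb.isInvertibleCl_one (by
      rw [pullCl_one, _root_.mul_one]
      exact hg₀.symm)
    rw [hPuψ] at hψ
    have hg₀e : g₀ = e.inv := by rw [← cancel_mono e.hom, ← hψ, e.inv_hom_id]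
    subst hg₀e
    show PicF.pullCl (C' ◁ e.inv).left ξ.1 = PicF.cl Pu
    rw [← PicZeroPrim.xtMap_eq]
    exact hg₀
  refine ⟨?_, fun T a b hab => ?_⟩
  swap
  · have hC : ∀ z : T ⟶ J, pl (C' ◁ z) u = PicF.pullCl (PicF.XTmap f (z ≫ e.inv)) ξ.1 := fun z => by
      rw [← hu, pl_pl, ← MonoidalCategory.whiskerLeft_comp]
      show PicF.pullCl (C' ◁ (z ≫ e.inv)).left ξ.1 = _
      rw [← PicZeroPrim.xtMap_eq]
      rfl
    rw [hC, hC, ← jac_pull_mul f hdim σ hσ ξ hξ huniv] at hab
    have h1 : PicF.pullCl (PicF.XTmap f (1 : T ⟶ J₀)) ξ.1 = 1 := by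
      have h := jac_pull_mul f hdim σ hσ ξ hξ huniv (1 : T ⟶ J₀) 1
      rw [_root_.one_mul] at h
      exact (isUnit_of_isInvertibleCl (FppfPic.isInvertibleCl_pull _ ξ.2.1)).mul_eq_right.1 h.symm
    have h2 : a ≫ e.inv * b ≫ e.inv = 1 := eq_of_rigPull f σ hσ ξ hξ huniv (Subtype.ext (hab.trans h1.symm))
    rw [← MonObj.mul_comp] at h2
    rw [← cancel_mono e.inv, h2, MonObj.one_comp]
  -- theta on the fine Jacobian
  obtain ⟨n0, hn0⟩ := Ext.thetaLocus_eq C hdim σ hσ hJ hj hN (by rw [hg]; exact hNdeg) (by omega)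
  rw [hg] at hn0
  let α := aj f hdim σ hσ ξ hξ huniv
  let n0' : 𝟙_ (Over (Spec (CommRingCat.of k))) ⟶ J₀ := n0 ≫ e.inv
  let L₀ := (Scheme.Modules.pullback e.hom.left).obj Θ
  haveI : IsIso e.hom.left := inferInstanceAs (IsIso ((Over.forget _).map e.hom))
  have hL₀ : PicF.IsInvertible L₀ := PicClLib.isInvertible_pullback _ hΘ.1
  let Sc : Closeds J.left := ⟨Jac.thetaLocus f 0 ψ N, isClosed_closure⟩
  have hc1 : PicF.cl Θ * PicF.cl (ClSub.idealMod (Scheme.IdealSheafData.vanishingIdeal Sc)) = 1 :=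
    (cl_eq_iff.2 hΘ.2).trans one_def.symm
  have key := lambda_pull C hdim σ hσ ξ hξ huniv hg hg1 n0' hL₀ (fun S hS => by
    have hS' : (S : Set J₀.left) = e.hom.left ⁻¹' (Sc : Set J.left) := by
      rw [hS]
      show _ = e.hom.left ⁻¹' Jac.thetaLocus f 0 ψ N
      rw [hn0]
      have h1 : Jac.transl J₀ n0' ≫ e.hom = e.hom ≫ Jac.transl J n0 := by
        rw [Ext.comp_transl', Jac.transl, MonObj.mul_comp, Category.id_comp, Category.assoc, Category.assoc,
          e.inv_hom_id, Category.comp_id]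
      have h2 : sumMap f α (g - 1) ≫ e.hom = sumMap f j (g - 1) := by
        rw [sumMap, Pts.prod_comp_hom]
        simp only [Category.assoc, α, f] at hej ⊢
        rw [hej]
      ext p
      show (Jac.transl J₀ n0').left p ∈ Set.range (sumMap f α (g - 1)).left ↔
        (Jac.transl J n0).left (e.hom.left p) ∈ Set.range (sumMap f j (g - 1)).left
      rw [← h2, show (Jac.transl J n0).left (e.hom.left p) = e.hom.left ((Jac.transl J₀ n0').left p) from
        (congr($(h1).left p)).symm]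
      constructor
      · rintro ⟨y, hy⟩
        exact ⟨y, congrArg e.hom.left hy⟩
      · rintro ⟨y, hy⟩
        exact ⟨y, e.hom.left.homeomorph.injective hy⟩
    have hcomap : (Scheme.IdealSheafData.vanishingIdeal Sc).comap e.hom.left =
        Scheme.IdealSheafData.vanishingIdeal S := by
      rw [comap_vanishingIdeal_iso]
      congr 1
      exact SetLike.coe_injective hS'.symm
    have hI : BlowUp.IsEffCartierIdeal (Scheme.IdealSheafData.vanishingIdeal Sc) := by
      obtain ⟨D, hD, ⟨w⟩⟩ := H23.PicInv.exists_inverse hΘ.1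
      have hw : PicF.cl Θ * PicF.cl D = 1 := cl_eq_iff.2 ⟨w⟩
      have : PicF.cl (ClSub.idealMod (Scheme.IdealSheafData.vanishingIdeal Sc)) = PicF.cl D := by
        rw [← _root_.one_mul (PicF.cl (ClSub.idealMod _)), ← hw, mul_comm (PicF.cl Θ), _root_.mul_assoc, hc1,
          _root_.mul_one]
      obtain ⟨φ⟩ := cl_eq_iff.1 this.symm
      exact (S8914.result _).1 (isInvertible_of_iso φ hD)
    have h := pullCl_mul_ideal e.hom.left hΘ.1 hc1 (BlowUpLib.isEffCartier_comap_flat _ hI)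
    rw [hcomap] at h
    exact cl_eq_iff.1 (h.trans one_def))
  have key' := congrArg (pl (C' ◁ e.inv)) key
  have hF : ∀ w : C' ⊗ J₀ ⟶ J₀, pl (C' ◁ e.inv) (F (PicF.cl L₀) w) =
      F (PicF.cl Θ) ((C' ◁ e.inv) ≫ w ≫ e.hom) := fun w => by
    rw [show F (PicF.cl L₀) w = F (PicF.cl Θ) (w ≫ e.hom) from PicClLib.pullCl_comp w.left e.hom.left (PicF.cl Θ)]
    exact pl_pl (C' ◁ e.inv) (w ≫ e.hom) _
  rw [map_mul, map_mul, hF, hF, hF, hu, MonObj.mul_comp, MonObj.comp_mul] at key'
  have ex : (C' ◁ e.inv) ≫ (fst C' J₀ ≫ α) ≫ e.hom = fst C' J ≫ j := by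
    rw [Category.assoc, hej, whiskerLeft_fst_assoc]
  have eq' : (C' ◁ e.inv) ≫ snd C' J₀ ≫ e.hom = snd C' J := by
    rw [whiskerLeft_snd_assoc, e.inv_hom_id, Category.comp_id]
  rw [ex, eq'] at key'
  exact key'

end Groth.Agent.PicCurve.ThetaPull

end
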