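import Groth.Agent.PicCurve.ThetaPull.Ideals
import Groth.Agent.PicCurve.Pts.H1Twist
import Groth.Agent.PicCurve.Alb.CoarseClass
import Groth.Agent.CurveFF.Base

/-!
# The theta divisor meets the curve in the points of a divisor with one section
-/

noncomputable section

set_option autoImplicit false
set_option linter.style.haveILetI false
set_option linter.unusedSectionVars false
set_option backward.isDefEq.respectTransparency false
set_option backward.isDefEq.respectTransparency.types false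
set_option maxHeartbeats 1000000
set_option synthInstance.maxHeartbeats 400000
attribute [-instance] CategoryTheory.catToReflQuiver

universe u

open CategoryTheory CategoryTheory.Limits AlgebraicGeometry TopologicalSpace
  MonoidalCategory CartesianMonoidalCategory
open scoped MonObj
open Groth.Agent.H23.PicMul

namespace Groth.Agent.PicCurve.ThetaPull

open Alb Pts

section Group

variable {k : Type u} [Field k] [IsAlgClosed k] {J : Over (Spec (CommRingCat.of k))} [GrpObj J] [IsCommMonObj J]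

theorem inv_image_eq_preimage (S : Set J.left) :
    ((𝟙 J)⁻¹).left.base '' S = ((𝟙 J)⁻¹).left.base ⁻¹' S := by
  have hι : (𝟙 J)⁻¹ ≫ (𝟙 J)⁻¹ = 𝟙 J := by rw [GrpObj.comp_inv, Category.comp_id, inv_inv]
  have h1 : ∀ y : J.left, ((𝟙 J)⁻¹).left.base (((𝟙 J)⁻¹).left.base y) = y := fun y => congr($(hι).left y)
  ext y
  exact ⟨fun ⟨z, hz, hzy⟩ => by rw [← hzy]; show _ ∈ S; rwa [h1], fun hy => ⟨_, hy, h1 y⟩⟩

theorem pt_mem_inv_image (c : 𝟙_ (Over (Spec (CommRingCat.of k))) ⟶ J) (S : Set J.left) :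
    pt c ∈ ((𝟙 J)⁻¹).left.base '' S ↔ pt c⁻¹ ∈ S := by
  rw [inv_image_eq_preimage, Set.mem_preimage, pt_comp, GrpObj.comp_inv, Category.comp_id]

theorem mem_range_iff [LocallyOfFiniteType J.hom] {A : Over (Spec (CommRingCat.of k))} [LocallyOfFiniteType A.hom]
    (φ : A ⟶ J) (c : 𝟙_ (Over (Spec (CommRingCat.of k))) ⟶ J) :
    pt c ∈ Set.range φ.left.base ↔ ∃ q : 𝟙_ (Over (Spec (CommRingCat.of k))) ⟶ A, q ≫ φ = c := by
  refine ⟨fun hc => ?_, ?_⟩
  · haveI : JacobsonSpace A.left := LocallyOfFiniteType.jacobsonSpace A.hom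
    have hcl : IsClosed ({pt c} : Set J.left) := (pointEquivClosedPoint J.hom ⟨c.left, Over.w c⟩).2
    obtain ⟨w₀, hw₀⟩ := hc
    obtain ⟨w, hw, hwc⟩ := nonempty_inter_closedPoints (X := A.left)
      ⟨w₀, (show w₀ ∈ φ.left.base ⁻¹' {pt c} from hw₀)⟩ (hcl.preimage φ.left.continuous).isLocallyClosed
    obtain ⟨q, rfl⟩ := exists_pt (Y := A) hwc
    exact ⟨q, pt_injective ((pt_comp q φ).symm.trans hw)⟩
  · rintro ⟨q, rfl⟩
    exact ⟨pt q, pt_comp q φ⟩

end Group

section Good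

variable {k : Type u} [Field k] [IsAlgClosed k] {X : Scheme.{u}} [X.Over (Spec (CommRingCat.of k))]
  [IsProper (X ↘ Spec (CommRingCat.of k))] [Smooth (X ↘ Spec (CommRingCat.of k))] [IsIntegral X]
  [SmoothOfRelativeDimension 1 (X ↘ Spec (CommRingCat.of k))] [GeometricallyIntegral (X ↘ Spec (CommRingCat.of k))]
  (hdim : topologicalKrullDim X = 1) (σ : Spec (CommRingCat.of k) ⟶ X)
  (hσ : σ ≫ (X ↘ Spec (CommRingCat.of k)) = 𝟙 _)
  {J : Over (Spec (CommRingCat.of k))} (ξ : PicF.Rig (X ↘ Spec (CommRingCat.of k)) σ hσ J)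
  (hξ : FGA.HasFibreDegreeZeroCl (X ↘ Spec (CommRingCat.of k)) J ξ.1)
  (huniv : ∀ (T : Over (Spec (CommRingCat.of k))) (c : PicF.Rig (X ↘ Spec (CommRingCat.of k)) σ hσ T),
    FGA.HasFibreDegreeZeroCl (X ↘ Spec (CommRingCat.of k)) T c.1 →
    ∃! g : T ⟶ J, PicF.pullCl (PicF.XTmap (X ↘ Spec (CommRingCat.of k)) g) ξ.1 = c.1)
  [IsProper J.hom]

include hdim hξ huniv in
/-- the class of a divisor in terms of its sum -/
theorem cl_eq_clN {n : ℕ} (x : Fin n → (𝟙_ (Over (Spec (CommRingCat.of k))) ⟶ Over.mk (X ↘ Spec (CommRingCat.of k))))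
    {M : X.Modules} (hcl : PicF.cl M * (List.ofFn fun i => ptCl (X ↘ Spec (CommRingCat.of k)) (x i)).prod = 1) :
    letI := jacGrpObj (X ↘ Spec (CommRingCat.of k)) hdim σ hσ ξ hξ huniv
    PicF.cl M = clN (X ↘ Spec (CommRingCat.of k)) σ hσ ξ n
      (List.ofFn fun i => x i ≫ aj (X ↘ Spec (CommRingCat.of k)) hdim σ hσ ξ hξ huniv).prod := by
  let f := X ↘ Spec (CommRingCat.of k)
  letI := jacGrpObj f hdim σ hσ ξ hξ huniv
  have h0 := clN_mul_prod hdim σ hσ ξ hξ huniv n 0 1 x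
  rw [_root_.one_mul, zero_add] at h0
  have h1 : clN f σ hσ ξ 0 1 = 1 := by
    have := clN_mul_pow f σ hσ ξ 0 (1 : 𝟙_ (Over (Spec (CommRingCat.of k))) ⟶ J)
    rwa [pow_zero, _root_.mul_one, A_one f hdim σ hσ ξ hξ huniv] at this
  refine (eq_invCl (a := (List.ofFn fun i => ptCl f (x i)).prod) ?_ ?_).trans
    (eq_invCl (a := (List.ofFn fun i => ptCl f (x i)).prod) ?_ ?_).symm
  · exact isInvertibleCl_prod_pt f n x
  · rw [_root_.mul_comm]; exact hcl
  · exact isInvertibleCl_prod_pt f n x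
  · rw [_root_.mul_comm, h0, h1]

include hdim hξ in
/-- a class of degree the genus with one section is good -/
theorem mem_goodU (a : 𝟙_ (Over (Spec (CommRingCat.of k))) ⟶ J) {M : X.Modules} (hM : PicF.IsInvertible M)
    (hcl : PicF.cl M = clN (X ↘ Spec (CommRingCat.of k)) σ hσ ξ (gen (X ↘ Spec (CommRingCat.of k))) a)
    (h1 : Module.finrank k (Coh.HH X M 0) = 1) : pt a ∈ goodU (X ↘ Spec (CommRingCat.of k)) σ hσ ξ := by
  let f := X ↘ Spec (CommRingCat.of k)
  have hg : Curv2.genus k X = gen f := rfl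
  have hRR := degX_cl (k := k) hdim.le hM
  rw [hcl, degX_clN f hdim σ hσ ξ hξ, CurveCohLib.Clifford.deg_eq k hdim hM, h1, hg] at hRR
  have h0 : Module.finrank k (Coh.HH X M 1) = 0 := by
    simp only [f] at hRR
    omega
  let P : Over (Spec (CommRingCat.of k)) := 𝟙_ _
  letI : (PicF.XT f P).Over (Spec (CommRingCat.of k)) := ⟨PicF.XTproj f P⟩
  haveI : IsProper (PicF.XT f P ↘ Spec (CommRingCat.of k)) := isProper_proj f _
  let L := (Scheme.Modules.pullback (p₁ f)).obj M
  have hL : PicF.IsInvertible L := PicClLib.isInvertible_pullback _ hM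
  have hLcl : PicF.cl L = PicF.pullCl (PicF.XTmap f a) (shCl f σ hσ ξ (gen f)) := by
    rw [← pull_clN f σ hσ ξ (gen f) a, ← hcl]
    rfl
  let z : P.left := show Spec (CommRingCat.of k) from IsLocalRing.closedPoint k
  refine (goodCl_pull f a (isInvertibleCl_shCl f σ hσ ξ (gen f)) z).1 ?_
  rw [← hLcl, goodCl_cl f hL]
  let q : PicF.XT f P ⟶ Spec (CommRingCat.of k) := PicF.XTproj f P
  haveI : IsProper q := isProper_proj f _
  exact ⟨(QuotRep.fiberRank_field q (isQCoh_inv hL) 0 z).trans ((finrank_p₁ M hM 0).trans h1),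
    (QuotRep.fiberRank_field q (isQCoh_inv hL) 1 z).trans ((finrank_p₁ M hM 1).trans h0)⟩

end Good

variable {k : Type u} [Field k] [IsAlgClosed k] (C : Scheme.{u}) [C.Over (Spec (CommRingCat.of k))]
  [IsProper (C ↘ Spec (CommRingCat.of k))] [Smooth (C ↘ Spec (CommRingCat.of k))]
  [GeometricallyConnected (C ↘ Spec (CommRingCat.of k))]
  (hdim : topologicalKrullDim C = 1) (σ : Spec (CommRingCat.of k) ⟶ C)
  (hσ : σ ≫ (C ↘ Spec (CommRingCat.of k)) = 𝟙 _)
  {J : Over (Spec (CommRingCat.of k))} [GrpObj J] [IsCommMonObj J]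
  {ψ : (ModFun.PicDeg (C ↘ Spec (CommRingCat.of k)) 0).Hom ⊤ J}
  (hJ : Jac.IsJacobian (C ↘ Spec (CommRingCat.of k)) ⊤ J ψ)
  {j : Over.mk (C ↘ Spec (CommRingCat.of k)) ⟶ J}
  (hj : Jac.IsAbelJacobiAt (C ↘ Spec (CommRingCat.of k)) σ ψ j)

/-- the translate of the inverted sums of genus minus one points -/
abbrev thetaMinus (n : ℕ) (a : 𝟙_ (Over (Spec (CommRingCat.of k))) ⟶ J) : Set J.left :=
  (Jac.transl J a).left.base '' (((𝟙 J)⁻¹).left.base '' Set.range (sumMap (C ↘ Spec (CommRingCat.of k)) j n).left.base)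

theorem isClosed_thetaMinus [IsSeparated J.hom] (n : ℕ) (a : 𝟙_ (Over (Spec (CommRingCat.of k))) ⟶ J) :
    IsClosed (thetaMinus C (j := j) n a) := by
  refine isClosed_image_transl a ?_
  rw [inv_image_eq_preimage]
  exact (isClosed_range_sumMap _ j n).preimage ((𝟙 J)⁻¹).left.continuous

theorem pt_mem_thetaMinus [LocallyOfFiniteType J.hom] (n : ℕ) (a c : 𝟙_ (Over (Spec (CommRingCat.of k))) ⟶ J) :
    pt c ∈ thetaMinus C (j := j) n a ↔ a * c⁻¹ ∈ WJ (C ↘ Spec (CommRingCat.of k)) j n := by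
  rw [pt_mem_image_transl, pt_mem_inv_image, mem_range_sumMap, mul_inv, inv_inv, _root_.mul_comm]
  rfl

include hdim σ hσ hJ hj in
/-- inverse image of the translate of theta along the Abel map -/
theorem comap_thetaMinus {g : ℕ} (hg : Curv2.genus k C = g) (hg1 : 1 ≤ g)
    (x : Fin g → (𝟙_ (Over (Spec (CommRingCat.of k))) ⟶ Over.mk (C ↘ Spec (CommRingCat.of k))))
    (a : 𝟙_ (Over (Spec (CommRingCat.of k))) ⟶ J) (hax : a = (List.ofFn fun i => x i ≫ j).prod)
    {M : C.Modules} (hM : PicF.IsInvertible M)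
    (hcl : PicF.cl M * (List.ofFn fun i => ptCl (C ↘ Spec (CommRingCat.of k)) (x i)).prod = 1)
    (h1 : Module.finrank k (Coh.HH C M 0) = 1) :
    (Scheme.IdealSheafData.vanishingIdeal ⟨closure (thetaMinus C (j := j) (g - 1) a), isClosed_closure⟩).comap j.left =
      ∏ i, (x i).left.ker := by
  let f := C ↘ Spec (CommRingCat.of k)
  let P : Over (Spec (CommRingCat.of k)) := 𝟙_ _
  haveI : IsProper f := ‹_›
  haveI : Smooth f := ‹_›
  haveI : ConnectedSpace C := connectedSpace_of_geomConn f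
  haveI : GeometricallyIntegral f := Groth.Agent.S7791.result f σ hσ
  haveI : IsIntegral C := GeometricallyIntegral.isIntegral_of_subsingleton f
  haveI : SmoothOfRelativeDimension 1 f := Groth.Agent.HilbCurve.smoothOfRelativeDimension_one f hdim
  obtain ⟨J₀, ξ, hp, hsm, hi, hξ, huniv⟩ := Groth.Agent.PicCurve.exists_jacobian_field f hdim σ hσ
  haveI := hp; haveI := hsm; haveI := hi
  haveI : IrreducibleSpace J₀.left := GeometricallyIrreducible.irreducibleSpace_of_subsingleton J₀.hom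
  letI := PicCurve.jacGrpObj f hdim σ hσ ξ hξ huniv
  haveI := jac_isCommMonObj f hdim σ hσ ξ hξ huniv
  obtain ⟨e, he, he', hej, hpt⟩ := exists_iso_jac_class f hdim σ hσ ξ hξ huniv hJ hj
  haveI := he
  haveI := he'
  haveI : IsProper J.hom := by
    rw [← Over.w e.inv]
    infer_instance
  obtain ⟨n, rfl⟩ : ∃ n, g = n + 1 := ⟨g - 1, by omega⟩
  rw [Nat.add_sub_cancel]
  have hn : gen f = n + 1 := hg
  obtain ⟨D⟩ := nonempty_tower (f := f) hdim σ hσ
  let a₀ : P ⟶ J₀ := (List.ofFn fun i => x i ≫ aj f hdim σ hσ ξ hξ huniv).prod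
  have htup : ∀ (m : ℕ) (v : Fin m → (P ⟶ Over.mk f)),
      (List.ofFn fun i => v i ≫ aj f hdim σ hσ ξ hξ huniv).prod ≫ e.hom = (List.ofFn fun i => v i ≫ j).prod := by
    intro m v
    rw [prod_comp_hom e.hom]
    congr 2
    funext i
    rw [Category.assoc]
    exact congrArg (v i ≫ ·) hej
  have ha : a = a₀ ≫ e.hom := hax.trans (htup _ x).symm
  have hcl' : PicF.cl M = clN f σ hσ ξ (gen f) a₀ := by
    rw [hn]
    exact cl_eq_clN hdim σ hσ ξ hξ huniv x hcl
  have hgood : pt a₀ ∈ goodU f σ hσ ξ := mem_goodU hdim σ hσ ξ hξ a₀ hM hcl' h1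
  have hcore := comap_ker_nu f hdim σ hσ ξ hξ huniv D hn x a₀ rfl hgood
  let ν := nu f hdim σ hσ ξ hξ huniv D n a₀ ≫ e.hom
  haveI : IsProper (D.H n).hom := D.proper n
  haveI : IsProper (ν.left ≫ J.hom) := by rw [Over.w]; infer_instance
  haveI : IsProper ν.left := IsProper.of_comp _ J.hom
  haveI : IsProper ((nu f hdim σ hσ ξ hξ huniv D n a₀).left ≫ J₀.hom) := by rw [Over.w]; infer_instance
  haveI : IsProper (nu f hdim σ hσ ξ hξ huniv D n a₀).left := IsProper.of_comp _ J₀.hom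
  have hrange : closure (Set.range ν.left.base) = thetaMinus C (j := j) n a := by
    rw [ν.left.isClosedMap.isClosed_range.closure_eq]
    have hiff : ∀ c : P ⟶ J, pt c ∈ Set.range ν.left.base ↔ a * c⁻¹ ∈ WJ f j n := by
      intro c
      rw [mem_range_iff]
      constructor
      · rintro ⟨q, rfl⟩
        obtain ⟨v, hv⟩ := exists_tuple hdim σ hσ ξ hξ huniv D n q
        refine ⟨v, ?_⟩
        show a * (q ≫ nu f hdim σ hσ ξ hξ huniv D n a₀ ≫ e.hom)⁻¹ = _
        rw [← htup, ← Category.assoc, comp_nu, hv, MonObj.mul_comp, GrpObj.inv_comp, toUnit_unique (toUnit P) (𝟙 _),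
          Category.id_comp, ← ha, mul_inv, inv_inv, mul_inv_cancel_left]
      · rintro ⟨v, hv⟩
        obtain ⟨q, hq⟩ := exists_divisor hdim σ hσ ξ hξ huniv D n v
        refine ⟨q, ?_⟩
        show q ≫ nu f hdim σ hσ ξ hξ huniv D n a₀ ≫ e.hom = c
        rw [← Category.assoc, comp_nu, hq, MonObj.mul_comp, GrpObj.inv_comp, toUnit_unique (toUnit P) (𝟙 _),
          Category.id_comp, ← ha, htup, ← hv, mul_inv, inv_inv, mul_inv_cancel_left]
    exact Set.Subset.antisymm
      (subset_of_pts ν.left.isClosedMap.isClosed_range (isClosed_thetaMinus C n a)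
        fun c hc => (pt_mem_thetaMinus C n a c).2 ((hiff c).1 hc))
      (subset_of_pts (isClosed_thetaMinus C n a) ν.left.isClosedMap.isClosed_range
        fun c hc => (hiff c).2 ((pt_mem_thetaMinus C n a c).1 hc))
  rw [← ker_eq_vanishingIdeal ν.left ⟨closure (thetaMinus C (j := j) n a), isClosed_closure⟩
      (hrange.trans (isClosed_thetaMinus C n a).closure_eq.symm),
    show ν.left = (nu f hdim σ hσ ξ hξ huniv D n a₀).left ≫ e.hom.left from rfl,
    show j.left = (aj f hdim σ hσ ξ hξ huniv).left ≫ e.hom.left from congr($(hej).left).symm,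
    Scheme.IdealSheafData.comap_comp, comap_ker_comp, hcore]

end Groth.Agent.PicCurve.ThetaPull

end
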